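import Cfsg.Agent.H737.EPO.OwnB

/-!
# Own characteristic, `T` of rank one: the data and the hypotheses (helper470)

`R1 p T` : `U` Sylow `p`-subgroup of `T`, `B = N_T(U)`, `w ∉ B`, `w² ∈ B`, `T = B ∪ U w B`, `U ∩ wBw⁻¹ = 1`.
`T0 = B ∩ wBw⁻¹`.

`R1.Hyp` : what has to be proved for `T`:
* `comm` : `[U, T0] = U`;
* `p2` : (`p = 2`) the automorphisms of `U` which commute with `T0` have no 2-elements;
* `inv` : (`p = 2, 3`) an automorphism of `T` which centralises `T0` normalises `B`;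
* `ov` : the proper overgroups of `T0`.
-/

set_option autoImplicit false

namespace Cfsg.Agent.H470.EPO

open Cfsg.Agent.H284 Cfsg.Agent.H737.EPO

/-- rank one data -/
structure R1 (p : ℕ) (T : Type*) [Group T] where
  U : Subgroup T
  B : Subgroup T
  w : T
  nU : Subgroup.normalizer (U : Set T) = B
  pU : IsPGroup p U
  mU : ∀ S : Subgroup T, U ≤ S → IsPGroup p S → S = U
  wB : w ∉ B
  ww : w * w ∈ B
  tr : ∀ g : T, g ∉ B → ∃ u ∈ U, ∃ b ∈ B, g = u * w * b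
  ti : U ⊓ cj w B = ⊥

namespace R1

variable {p : ℕ} {T : Type*} [Group T]

/-- the torus -/
def T0 (D : R1 p T) : Subgroup T := D.B ⊓ cj D.w D.B

/-- the hypotheses on `T` -/
structure Hyp (D : R1 p T) : Prop where
  /-- `[U, T0] = U` -/
  comm : ∀ X : Subgroup T, X ≤ D.U → (∀ u ∈ D.U, ∀ t ∈ D.T0, u * t * u⁻¹ * t⁻¹ ∈ X) → X = D.U
  /-- `p = 2` : a 2-automorphism of `U` which commutes with the action of `T0` is trivial -/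
  p2 : p = 2 → ∀ φ : MulAut D.U, (∀ t ∈ D.T0, ∀ u v : D.U, (v : T) = t * u * t⁻¹ →
    ((φ v : D.U) : T) = t * (φ u : D.U) * t⁻¹) → ∀ m : ℕ, φ ^ 2 ^ m = 1 → φ = 1
  /-- `p = 2, 3` : no automorphism of `T` which centralises `T0` moves `B` -/
  inv : p ≤ 3 → ∀ φ : MulAut T, (∀ t ∈ D.T0, φ t = t) → ∀ b ∈ D.B, φ b ∈ D.B
  /-- the proper overgroups of `T0` : `Z` runs over at most one (`p = 2, 3`), at most `p - 3` subgroups -/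
  ov : ∃ Zs : Finset (Subgroup T), (Zs.card ≤ 1 ∨ Zs.card + 2 < p) ∧ (∀ Z ∈ Zs, Z ≠ ⊥ ∧ Z ≠ ⊤) ∧
    ∀ K : Subgroup T, D.T0 ≤ K → K ≠ ⊤ → (K ≤ D.B ∧ K ⊓ D.U ≠ ⊥) ∨ (K ≤ cj D.w D.B ∧ K ⊓ cj D.w D.U ≠ ⊥) ∨
      ∃ Z ∈ Zs, ∀ φ : MulAut T, (∀ x ∈ K, φ x ∈ K) → ∀ z ∈ Z, φ z ∈ Z

theorem U_le (D : R1 p T) : D.U ≤ D.B := by
  rw [← D.nU]; exact Subgroup.le_normalizer

theorem conj_U (D : R1 p T) {b u : T} (hb : b ∈ D.B) (hu : u ∈ D.U) : b * u * b⁻¹ ∈ D.U := by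
  rw [← D.nU] at hb
  exact (Subgroup.mem_normalizer_iff.1 hb u).1 hu

theorem cj_w_cj_w (D : R1 p T) : cj D.w (cj D.w D.B) = D.B := by
  rw [← cj_mul]
  exact cj_eq_self D.ww

/-- `B = U T0` -/
theorem exists_UT (D : R1 p T) {b : T} (hb : b ∈ D.B) : ∃ u ∈ D.U, ∃ t ∈ D.T0, b = u * t := by
  have h1 : b * D.w ∉ D.B := by
    intro h2
    apply D.wB
    have h3 := D.B.mul_mem (D.B.inv_mem hb) h2
    rwa [inv_mul_cancel_left] at h3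
  obtain ⟨u, hu, c, hc, h2⟩ := D.tr _ h1
  refine ⟨u, hu, u⁻¹ * b, ⟨D.B.mul_mem (D.B.inv_mem (D.U_le hu)) hb, ?_⟩, by group⟩
  show u⁻¹ * b ∈ cj D.w D.B
  have h3 : u⁻¹ * b = D.w * c * D.w⁻¹ := by
    have : b = u * D.w * c * D.w⁻¹ := by rw [← h2]; group
    rw [this]; group
  rw [h3]
  exact conj_mem_cj hc

/-- a simpler form of `ov` : one `Z`, invariant under the automorphisms which fix `T0` -/
theorem ov_of (D : R1 p T) (Z : Subgroup T) (h1 : Z ≠ ⊥) (h2 : Z ≠ ⊤)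
    (hT0 : ∀ φ : MulAut T, (∀ x ∈ D.T0, φ x ∈ D.T0) → ∀ z ∈ Z, φ z ∈ Z)
    (h : ∀ K : Subgroup T, D.T0 ≤ K → K ≠ ⊤ → K ≤ D.B ∨ K ≤ cj D.w D.B ∨
      ∀ φ : MulAut T, (∀ x ∈ K, φ x ∈ K) → ∀ z ∈ Z, φ z ∈ Z) :
    ∃ Zs : Finset (Subgroup T), (Zs.card ≤ 1 ∨ Zs.card + 2 < p) ∧ (∀ Z ∈ Zs, Z ≠ ⊥ ∧ Z ≠ ⊤) ∧
    ∀ K : Subgroup T, D.T0 ≤ K → K ≠ ⊤ → (K ≤ D.B ∧ K ⊓ D.U ≠ ⊥) ∨ (K ≤ cj D.w D.B ∧ K ⊓ cj D.w D.U ≠ ⊥) ∨
      ∃ Z ∈ Zs, ∀ φ : MulAut T, (∀ x ∈ K, φ x ∈ K) → ∀ z ∈ Z, φ z ∈ Z := by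
  classical
  have key : ∀ K : Subgroup T, D.T0 ≤ K → K ≤ D.B → K ⊓ D.U = ⊥ → K = D.T0 := by
    intro K h3 h4 h5
    apply le_antisymm _ h3
    intro k hk
    obtain ⟨u, hu, t, ht, rfl⟩ := D.exists_UT (h4 hk)
    have h6 : u ∈ K := by
      have := mul_mem hk (inv_mem (h3 ht))
      rwa [mul_inv_cancel_right] at this
    have h7 : u ∈ K ⊓ D.U := ⟨h6, hu⟩
    rw [h5, Subgroup.mem_bot] at h7
    rw [h7, one_mul]
    exact ht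
  have hwT : cj D.w D.T0 = D.T0 := by
    show cj D.w (D.B ⊓ cj D.w D.B) = _
    rw [cj_inf, D.cj_w_cj_w, inf_comm]
    rfl
  refine ⟨{Z}, Or.inl (by simp), by simp [h1, h2], fun K h3 h4 => ?_⟩
  rcases h K h3 h4 with h5 | h5 | h5
  · by_cases h6 : K ⊓ D.U = ⊥
    · right; right
      rw [key K h3 h5 h6]
      exact ⟨Z, by simp, hT0⟩
    · exact Or.inl ⟨h5, h6⟩
  · by_cases h6 : K ⊓ cj D.w D.U = ⊥
    · right; right
      have h7 : cj D.w⁻¹ K = D.T0 := by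
        apply key
        · have h8 := cj_mono (x := D.w⁻¹) h3
          rw [← hwT, cj_inv_cj] at h8
          exact h8
        · have h8 := cj_mono (x := D.w⁻¹) h5
          rwa [cj_inv_cj] at h8
        · have h8 := congrArg (cj D.w⁻¹) h6
          rw [cj_inf, cj_inv_cj] at h8
          rw [h8]
          exact Subgroup.map_bot _
      have h9 : K = D.T0 := by
        rw [← hwT, ← h7, cj_cj_inv]
      rw [h9]
      exact ⟨Z, by simp, hT0⟩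
    · exact Or.inr (Or.inl ⟨h5, h6⟩)
  · exact Or.inr (Or.inr ⟨Z, by simp, h5⟩)

end R1

end Cfsg.Agent.H470.EPO
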