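import Cfsg.Agent.H737.EPO.PSys
import Cfsg.Agent.KFacts.RgdLieCharP

/-!
# Borel–Tits for an arbitrary root group datum of a group with a filtered one (helper470)

`bt_of_hasFilt` : if `HasFilt p Y` then every root group datum of characteristic `p` of `Y` satisfies `BT`.
-/

set_option autoImplicit false
set_option linter.unusedSectionVars false

namespace Cfsg.Agent.H470.EPO

open CoxeterSystem Cfsg.Agent.ChevalleyStructure.CoxeterGeom Cfsg.Agent.Tits.Roots Cfsg.Agent.Tits.Core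
  Cfsg.Agent.Tits.RootComb Cfsg.Agent.Tits.Exchange Cfsg.Agent.Nodes.Reps Cfsg.Agent.Nodes.BNOf
  Cfsg.Agent.Nodes.StabComb Cfsg.Agent.Nodes.Bruhat Cfsg.Agent.Nodes.OppDec Cfsg.Agent.Nodes.LeviDec
  Cfsg.Agent.Nodes.Coroot Cfsg.Agent.KFacts.RgdPar Cfsg.Agent.KFacts.RgdSL Cfsg.Agent.KFacts.RgdVJ
  Cfsg.Agent.KFacts.RgdCharP

section

variable {I W Y : Type*} [Fintype I] [DecidableEq I] [Group W] [Group Y] {M : CoxeterMatrix I}
  {cs : CoxeterSystem M W} {A : I → I → ℤ} {h : IsCartan M A} {p : ℕ} {T : Subgroup Y} {n : I → Y}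
  {X : (I → ℤ) → Subgroup Y}

variable {I' W' : Type*} [Fintype I'] [DecidableEq I'] [Group W'] {M' : CoxeterMatrix I'}
  {cs' : CoxeterSystem M' W'} {A' : I' → I' → ℤ} {h' : IsCartan M' A'} {T' : Subgroup Y} {n' : I' → Y}
  {X' : (I' → ℤ) → Subgroup Y}

/-- `U` is a Sylow subgroup -/
theorem exists_sylow_U (R : RGD cs h p T n X) [Finite W] [Finite Y] [Fact p.Prime] (hG : GG cs h T X = ⊤) :
    ∃ S : Sylow p Y, (S : Subgroup Y) = RGD.Sup X (RGD.Pos cs h) := by
  have hp1 : IsPGroup p (RGD.Sup X (RGD.Pos cs h)) := by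
    have := isPGroup_VJ R (∅ : Set I)
    unfold VJ at this
    rwa [H470.EPK.NotJ_empty] at this
  obtain ⟨S, hS⟩ := hp1.exists_le_sylow
  exact ⟨S, KFacts.RgdEx.eq_U R hS (by rw [hG]; exact le_top) S.isPGroup'⟩

/-- **`BT` is intrinsic** -/
theorem bt_transfer (R : RGD cs h p T n X) (R' : RGD cs' h' p T' n' X') [Finite W] [Finite W'] [Finite Y]
    [Fact p.Prime] (hG : GG cs h T X = ⊤) (hG' : GG cs' h' T' X' = ⊤) (hBT : BT cs' h' p T' X') :
    BT cs h p T X := by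
  intro K hK hK1
  obtain ⟨g', J', hJ', h1, h2⟩ := hBT K hK hK1
  obtain ⟨S, hS⟩ := exists_sylow_U R hG
  obtain ⟨S', hS'⟩ := exists_sylow_U R' hG'
  obtain ⟨a, ha⟩ := MulAction.exists_smul_eq Y S' S
  have hU : cj a (RGD.Sup X' (RGD.Pos cs' h')) = RGD.Sup X (RGD.Pos cs h) := by
    rw [← hS, ← hS', ← ha]
    rfl
  -- the Borel subgroups
  have hB : RGD.B cs h T X ≤ cj a (PJ cs' h' T' X' J') := by
    have h3 := KFacts.RgdEx.normalizer_U R
    have h4 := KFacts.RgdEx.normalizer_U R'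
    rw [hG, inf_top_eq] at h3
    rw [hG', inf_top_eq] at h4
    rw [← h3, ← hU]
    intro x hx
    have h5 : a⁻¹ * x * a ∈ RGD.B cs' h' T' X' := by
      rw [← h4, mem_normalizer_iff_cj]
      have h6 : cj x (cj a (RGD.Sup X' (RGD.Pos cs' h'))) = cj a (RGD.Sup X' (RGD.Pos cs' h')) :=
        mem_normalizer_iff_cj.1 hx
      rw [cj_mul, cj_mul, h6, cj_inv_cj]
    rw [mem_cj]
    exact B_le_PJ h5
  have h3 := inf_eq_PJ R hB
  rw [hG, inf_top_eq] at h3
  set J : Set I := {i | n i ∈ cj a (PJ cs' h' T' X' J')} with hJ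
  have hJu : J ≠ Set.univ := by
    intro h4
    apply (show PJ cs' h' T' X' J' ≠ ⊤ from ?_)
    · have h5 : PJ cs h T X J = ⊤ := by
        rw [h4, eq_top_iff, ← hG, ← LJ_univ]
        exact LJ_le_PJ
      rw [← cj_inv_cj a (PJ cs' h' T' X' J'), h3, h5]
      exact Subgroup.map_top_of_surjective _ (MulAut.conj a⁻¹).surjective
    · intro h5
      apply hJ'
      have h6 : PJ cs' h' T' X' Set.univ ≤ PJ cs' h' T' X' J' := by rw [h5]; exact le_top
      exact Set.eq_univ_of_univ_subset ((H737.EPO.PJ_le_iff R').1 h6)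
  have hVJ : cj a (VJ cs' h' X' J') ≤ VJ cs h X J := by
    apply H737.EPO.VJ_max R hG
    · rw [← h3]
      exact cj_mono a (VJ_le_PJ)
    · exact (isPGroup_VJ R' J').map _
    · intro x hx v hv
      rw [← h3, mem_cj] at hx
      rw [mem_cj] at hv ⊢
      have h5 := (Subgroup.mem_normalizer_iff.1 (PJ_le_normalizer_VJ R' J' hx) (a⁻¹ * v * a)).1 hv
      have e : a⁻¹ * (x * v * x⁻¹) * a = a⁻¹ * x * a * (a⁻¹ * v * a) * (a⁻¹ * x * a)⁻¹ := by group
      rw [e]
      exact h5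
  refine ⟨g' * a⁻¹, J, hJu, ?_, ?_⟩
  · refine h1.trans ?_
    rw [cj_mul]
    apply cj_mono
    rw [← cj_inv_cj a (VJ cs' h' X' J')]
    exact cj_mono _ hVJ
  · refine h2.trans ?_
    rw [cj_mul, ← h3, cj_inv_cj]

/-- **every root group datum of characteristic `p` of a group with `HasFilt p` satisfies `BT`** -/
theorem bt_of_hasFilt (R : RGD cs h p T n X) [Finite W] [Finite Y] [Fact p.Prime] (hG : GG cs h T X = ⊤)
    (hF : KFacts.RgdFilt.HasFilt p Y) : BT cs h p T X := by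
  obtain ⟨l, M', A', h', T', n', X', R', F, hW, hX, hF⟩ := hF
  exact bt_transfer R R' hG (KFacts.RgdFilt.GG_eq_top hX)
    (fun K hK h1 => KFacts.RgdFilt.borel_tits_of_filt hF hX hK h1)

end

end Cfsg.Agent.H470.EPO
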