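import Cfsg.Agent.Solvable.FixedPointFree
import Mathlib.GroupTheory.Sylow
import Mathlib.GroupTheory.SpecificGroups.Cyclic
import Mathlib.GroupTheory.GroupAction.Quotient

/-!
# The panel lemma (helper470, for S5745 / S3499, own characteristic)

`W` a finite elementary abelian `p`-group which is the union of nontrivial subgroups `V c` (`c` in a set of
`p ^ a + 1` elements), pairwise with trivial intersection, permuted by a group such that the stabiliser of `c`
centralises `V c` and is transitive on the other points.  Then `p ^ a = 2` and `|W| = 4`.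
-/

set_option autoImplicit false
set_option linter.unusedSectionVars false

namespace Cfsg.Agent.H470.EPO

open MulAction

/-- The hypotheses, for a faithful action of a finite group `B`. -/
structure Pan (p a : ℕ) (B W P : Type*) [Group B] [CommGroup W] [MulAction B P] [MulDistribMulAction B W]
    (V : P → Subgroup W) : Prop where
  exp : ∀ w : W, w ^ p = 1
  ha : 1 ≤ a
  card : Nat.card P = p ^ a + 1
  eqv : ∀ (b : B) (c : P) (v : W), v ∈ V c → b • v ∈ V (b • c)
  cent : ∀ (b : B) (c : P) (v : W), b • c = c → v ∈ V c → b • v = v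
  cover : ∀ w : W, ∃ c, w ∈ V c
  disj : ∀ (c d : P) (w : W), c ≠ d → w ∈ V c → w ∈ V d → w = 1
  ne : ∀ c, ∃ v ∈ V c, v ≠ 1
  two : ∀ c d d' : P, d ≠ c → d' ≠ c → ∃ b : B, b • c = c ∧ b • d = d'

namespace Pan

/-- `m (q + 1) = q + p ^ s`, `m = p ^ b`, `q = p ^ a`, `a, b ≥ 1`: then `a = b` -/
theorem arith {p a b s : ℕ} (hp : p.Prime) (ha : 1 ≤ a) (hb : 1 ≤ b)
    (h : p ^ b * (p ^ a + 1) = p ^ a + p ^ s) : a = b ∧ s = 2 * a := by
  have hp2 := hp.two_le
  have hpos : ∀ k, 0 < p ^ k := fun k => pow_pos hp.pos k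
  rcases lt_trichotomy a b with hab | hab | hab
  · exfalso
    obtain ⟨c, rfl⟩ := Nat.exists_eq_add_of_lt hab
    -- p^(a+c+1) (q+1) = p^a + p^s
    have h1 : p ^ (a + c + 1) = p ^ a * p ^ (c + 1) := by rw [← pow_add]; rfl
    have hs : a < s := by
      by_contra hcon
      push Not at hcon
      have h2 : p ^ s ≤ p ^ a := Nat.pow_le_pow_right hp.pos hcon
      have h3 : p ^ a * 2 ≤ p ^ (a + c + 1) := by
        rw [h1]
        refine Nat.mul_le_mul_left _ ?_
        calc 2 ≤ p := hp2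
          _ = p ^ 1 := (pow_one p).symm
          _ ≤ p ^ (c + 1) := Nat.pow_le_pow_right hp.pos (by omega)
      have h4 : p ^ (a + c + 1) * 1 < p ^ (a + c + 1) * (p ^ a + 1) :=
        Nat.mul_lt_mul_of_pos_left (by have := hpos a; omega) (hpos _)
      omega
    obtain ⟨e, rfl⟩ := Nat.exists_eq_add_of_lt hs
    have h2 : p ^ (a + e + 1) = p ^ a * p ^ (e + 1) := by rw [← pow_add]; rfl
    rw [h1, h2] at h
    have h3 : p ^ a * (p ^ (c + 1) * (p ^ a + 1)) = p ^ a * (1 + p ^ (e + 1)) := by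
      rw [← mul_assoc, h]; ring
    have h4 := Nat.eq_of_mul_eq_mul_left (hpos a) h3
    have h5 : p ∣ 1 := by
      have h6 : p ∣ p ^ (e + 1) := dvd_pow_self p (by omega)
      have h7 : p ∣ 1 + p ^ (e + 1) := by
        rw [← h4]
        exact Dvd.dvd.mul_right (dvd_pow_self p (by omega)) _
      exact (Nat.dvd_add_left h6).1 h7
    exact hp.one_lt.ne' (Nat.dvd_one.1 h5)
  · subst hab
    refine ⟨rfl, ?_⟩
    have h1 : p ^ a * p ^ a = p ^ s := by
      have : p ^ a * (p ^ a + 1) = p ^ a * p ^ a + p ^ a := by ring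
      omega
    rw [← pow_add] at h1
    have := Nat.pow_right_injective hp2 h1
    omega
  · exfalso
    obtain ⟨c, rfl⟩ := Nat.exists_eq_add_of_lt hab
    have h1 : p ^ (b + c + 1) = p ^ b * p ^ (c + 1) := by rw [← pow_add]; rfl
    have hs : b ≤ s := by
      by_contra hcon
      push Not at hcon
      obtain ⟨e, rfl⟩ := Nat.exists_eq_add_of_lt hcon
      have h2 : p ^ (s + e + 1) = p ^ s * p ^ (e + 1) := by rw [← pow_add]; rfl
      have h3 : p ^ s * (p ^ (e + 1) * (p ^ (s + e + 1 + c + 1) + 1)) = p ^ s * (p ^ (e + 1) * p ^ (c + 1) + 1) := by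
        have h4 : p ^ (s + e + 1 + c + 1) = p ^ (s + e + 1) * p ^ (c + 1) := by rw [← pow_add]; rfl
        rw [← mul_assoc, ← h2, h, h4, h2]; ring
      have h4 := Nat.eq_of_mul_eq_mul_left (hpos s) h3
      have h5 : p ∣ 1 := by
        have h6 : p ∣ p ^ (e + 1) * p ^ (c + 1) := Dvd.dvd.mul_right (dvd_pow_self p (by omega)) _
        have h7 : p ∣ p ^ (e + 1) * p ^ (c + 1) + 1 := by
          rw [← h4]
          exact Dvd.dvd.mul_right (dvd_pow_self p (by omega)) _
        exact (Nat.dvd_add_right h6).1 h7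
      exact hp.one_lt.ne' (Nat.dvd_one.1 h5)
    obtain ⟨e, rfl⟩ := Nat.exists_eq_add_of_le hs
    have h2 : p ^ (b + e) = p ^ b * p ^ e := pow_add _ _ _
    have h3 : p ^ b * (p ^ (b + c + 1) + 1) = p ^ b * (p ^ (c + 1) + p ^ e) := by
      rw [h, h1, h2]; ring
    have h4 := Nat.eq_of_mul_eq_mul_left (hpos b) h3
    -- p^(b+c+1) + 1 = p^(c+1) + p^e
    have h5 : e = 0 := by
      by_contra h0
      have h6 : p ∣ p ^ (c + 1) + p ^ e := Nat.dvd_add (dvd_pow_self p (by omega)) (dvd_pow_self p h0)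
      rw [← h4] at h6
      have h7 : p ∣ p ^ (b + c + 1) := dvd_pow_self p (by omega)
      exact hp.one_lt.ne' (Nat.dvd_one.1 ((Nat.dvd_add_right h7).1 h6))
    subst h5
    rw [pow_zero] at h4
    have h6 : p ^ (b + c + 1) = p ^ (c + 1) := by omega
    have := Nat.pow_right_injective hp2 h6
    omega

variable {p a : ℕ} {B W P : Type*} [Group B] [CommGroup W] [MulAction B P] [MulDistribMulAction B W]
  {V : P → Subgroup W} [Fact p.Prime] [Finite W] [Finite P]

variable (H : Pan p a B W P V)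

include H

theorem q_two : 2 ≤ p ^ a := by
  have hp := (Fact.out : p.Prime)
  calc 2 ≤ p := hp.two_le
    _ = p ^ 1 := (pow_one p).symm
    _ ≤ p ^ a := Nat.pow_le_pow_right hp.pos H.ha

theorem exists_third (c d : P) : ∃ e, e ≠ c ∧ e ≠ d := by
  classical
  have := Fintype.ofFinite P
  by_contra hcon
  push Not at hcon
  have h1 : (Finset.univ : Finset P) ⊆ {c, d} := by
    intro e _
    by_cases h2 : e = c
    · simp [h2]
    · simp [hcon e h2]
  have h2 := Finset.card_le_card h1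
  rw [Finset.card_univ, ← Nat.card_eq_fintype_card, H.card] at h2
  have h3 : ({c, d} : Finset P).card ≤ 2 := Finset.card_le_two
  have := H.q_two
  omega

theorem trans (c d : P) : ∃ b : B, b • c = d := by
  by_cases hcd : c = d
  · exact ⟨1, by rw [one_smul, hcd]⟩
  · obtain ⟨e, he1, he2⟩ := H.exists_third c d
    obtain ⟨b, -, hb⟩ := H.two e c d he1.symm he2.symm
    exact ⟨b, hb⟩

theorem mem_iff (b : B) (c : P) (v : W) : b • v ∈ V (b • c) ↔ v ∈ V c := by
  constructor
  · intro h1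
    have h2 := H.eqv b⁻¹ _ _ h1
    rwa [inv_smul_smul, inv_smul_smul] at h2
  · exact H.eqv b c v

theorem card_V (c d : P) : Nat.card (V c) = Nat.card (V d) := by
  obtain ⟨b, rfl⟩ := H.trans c d
  refine Nat.card_congr ⟨fun v => ⟨b • (v : W), H.eqv b c v v.2⟩, fun v => ⟨b⁻¹ • (v : W), ?_⟩, ?_, ?_⟩
  · have := H.eqv b⁻¹ _ _ v.2
    rwa [inv_smul_smul] at this
  · intro v
    simp
  · intro v
    simp

theorem card_W (c : P) : Nat.card W - 1 = Nat.card P * (Nat.card (V c) - 1) := by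
  classical
  have := Fintype.ofFinite P
  have := Fintype.ofFinite W
  have e1 : {w : W // w ≠ 1} ≃ Σ d : P, {v : V d // v ≠ 1} := by
    refine Equiv.ofBijective (fun w => ⟨(H.cover w.1).choose, ⟨⟨w.1, (H.cover w.1).choose_spec⟩, fun h1 => w.2 (by
      simpa using congrArg Subtype.val h1)⟩⟩) ⟨?_, ?_⟩
    · intro w w' hww
      have h1 := congrArg (fun s : (Σ d : P, {v : V d // v ≠ 1}) => ((s.2.1 : V s.1) : W)) hww
      exact Subtype.ext h1
    · rintro ⟨d, ⟨⟨v, hv⟩, hv1⟩⟩
      have hv1' : v ≠ 1 := fun h1 => hv1 (Subtype.ext h1)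
      refine ⟨⟨v, hv1'⟩, ?_⟩
      have h2 : (H.cover v).choose = d := by
        by_contra h3
        exact hv1' (H.disj _ _ v h3 (H.cover v).choose_spec hv)
      generalize_proofs q1 q2 at *
      have key : ∀ (d' : P) (hd : d' = d) (q : v ∈ V d') (q' : (⟨v, q⟩ : V d') ≠ 1),
          (⟨d', ⟨⟨v, q⟩, q'⟩⟩ : Σ d : P, {v : V d // v ≠ 1}) = ⟨d, ⟨⟨v, hv⟩, hv1⟩⟩ := by
        rintro d' rfl q q'
        rfl
      exact key _ h2 _ _
  have h2 := Nat.card_congr e1
  rw [Nat.card_sigma] at h2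
  have h3 : ∀ d : P, Nat.card {v : V d // v ≠ 1} = Nat.card (V c) - 1 := by
    intro d
    have h4 : Nat.card {v : V d // v ≠ 1} = Nat.card (V d) - 1 := by
      have := Fintype.ofFinite (V d)
      rw [Nat.card_eq_fintype_card, Nat.card_eq_fintype_card, Fintype.card_subtype_compl, Fintype.card_subtype_eq]
    rw [h4, H.card_V d c]
  simp_rw [h3] at h2
  rw [Finset.sum_const, Finset.card_univ, smul_eq_mul, ← Nat.card_eq_fintype_card] at h2
  rw [← h2]
  have := Fintype.ofFinite W
  rw [Nat.card_eq_fintype_card, Nat.card_eq_fintype_card, Fintype.card_subtype_compl, Fintype.card_subtype_eq]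

theorem cards (c : P) : Nat.card (V c) = p ^ a ∧ Nat.card W = p ^ a * p ^ a := by
  have hp := (Fact.out : p.Prime)
  have hWp : IsPGroup p W := fun w => ⟨1, by rw [pow_one]; exact H.exp w⟩
  obtain ⟨s, hs⟩ := IsPGroup.iff_card.1 hWp
  obtain ⟨b, hb⟩ := IsPGroup.iff_card.1 (hWp.to_subgroup (V c))
  have hb1 : 1 ≤ b := by
    by_contra h0
    have h0' : b = 0 := by omega
    rw [h0', pow_zero] at hb
    obtain ⟨v, hv, hv1⟩ := H.ne c
    rw [Subgroup.card_eq_one] at hb
    rw [hb] at hv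
    exact hv1 (Subgroup.mem_bot.1 hv)
  have h1 := H.card_W c
  rw [H.card, hs, hb] at h1
  have h2 : 0 < p ^ s := pow_pos hp.pos s
  have h3 : 0 < p ^ b := pow_pos hp.pos b
  have h4 : p ^ b * (p ^ a + 1) = p ^ a + p ^ s := by
    obtain ⟨k, hk⟩ : ∃ k, p ^ b = k + 1 := ⟨p ^ b - 1, by omega⟩
    rw [hk] at h1 ⊢
    rw [Nat.add_sub_cancel] at h1
    have : (k + 1) * (p ^ a + 1) = (p ^ a + 1) * k + (p ^ a + 1) := by ring
    omega
  obtain ⟨h5, h6⟩ := arith hp H.ha hb1 h4
  rw [hb, hs, ← h5, h6, two_mul, pow_add]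
  exact ⟨rfl, rfl⟩

/-- an element fixing two points acts trivially -/
theorem triv {b : B} {c d : P} (hcd : c ≠ d) (hc : b • c = c) (hd : b • d = d) (w : W) : b • w = w := by
  have hcomp : (V c).IsComplement' (V d) := by
    refine Subgroup.isComplement'_of_card_mul_and_disjoint ?_ ?_
    · rw [(H.cards c).1, (H.cards d).1, (H.cards c).2]
    · rw [Subgroup.disjoint_def]
      intro x hx hx'
      exact H.disj c d x hcd hx hx'
  obtain ⟨⟨x, y⟩, hxy⟩ := hcomp.2 w
  have hxy' : (x : W) * y = w := hxy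
  rw [← hxy', smul_mul', H.cent b c x hc x.2, H.cent b d y hd y.2]

variable [Finite B] [FaithfulSMul B W]

theorem one_of_two {b : B} {c d : P} (hcd : c ≠ d) (hc : b • c = c) (hd : b • d = d) : b = 1 :=
  FaithfulSMul.eq_of_smul_eq_smul (α := W) fun w => by rw [H.triv hcd hc hd w, one_smul]

theorem card_stab (c : P) : Nat.card (stabilizer B c) = p ^ a := by
  classical
  have := Fintype.ofFinite P
  obtain ⟨d, hd, -⟩ := H.exists_third c c
  have h1 : Nat.card (stabilizer B c) = Nat.card {e : P // e ≠ c} := by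
    refine Nat.card_congr (Equiv.ofBijective (fun b => ⟨(b : B) • d, fun h2 => hd ?_⟩) ⟨?_, ?_⟩)
    · have h3 : (b : B) • d = (b : B) • c := by rw [h2, b.2]
      exact smul_left_cancel _ h3
    · intro b b' hbb
      have h2 : (b : B) • d = (b' : B) • d := congrArg Subtype.val hbb
      have h3 : (b' : B)⁻¹ * b = 1 := by
        refine H.one_of_two hd ?_ ?_
        · rw [mul_smul, h2, inv_smul_smul]
        · have h4 : (b : B) • c = c := b.2
          have h5 : (b' : B) • c = c := b'.2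
          have h6 : (b' : B)⁻¹ • c = c := (inv_mem b'.2 : (b' : B)⁻¹ ∈ stabilizer B c)
          rw [mul_smul, h4, h6]
      exact Subtype.ext (inv_mul_eq_one.1 h3).symm
    · rintro ⟨e, he⟩
      obtain ⟨b, hb1, hb2⟩ := H.two c d e hd he
      exact ⟨⟨b, hb1⟩, Subtype.ext hb2⟩
  rw [h1, Nat.card_eq_fintype_card, Fintype.card_subtype_compl, Fintype.card_subtype_eq, ← Nat.card_eq_fintype_card,
    H.card]
  omega

theorem card_B : Nat.card B = (p ^ a + 1) * p ^ a := by
  have := Fintype.ofFinite P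
  have hne : Nonempty P := by
    rw [← Finite.card_pos_iff, H.card]
    omega
  obtain ⟨c⟩ := hne
  have h1 := Nat.card_congr (orbitEquivQuotientStabilizer B c)
  have h2 := Subgroup.card_eq_card_quotient_mul_card_subgroup (stabilizer B c)
  rw [H.card_stab, ← h1] at h2
  have h3 : orbit B c = Set.univ := Set.eq_univ_of_forall fun d => by
    obtain ⟨b, hb⟩ := H.trans c d
    exact ⟨b, hb⟩
  rw [h2, h3, Nat.card_congr (Equiv.Set.univ P), H.card]

/-- the fixed point free elements -/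
def Fp (B P : Type*) [Group B] [MulAction B P] : Set B := {b | ∀ c : P, b • c ≠ c}

theorem card_Fp : Nat.card (Fp B P) = p ^ a := by
  classical
  have := Fintype.ofFinite P
  have := Fintype.ofFinite B
  have hne : Nonempty P := by
    rw [← Finite.card_pos_iff, H.card]
    omega
  obtain ⟨c₀⟩ := hne
  -- nonidentity elements with a fixed point
  have e1 : {b : B // b ≠ 1 ∧ b ∉ Fp B P} ≃ Σ c : P, {b : stabilizer B c // b ≠ 1} := by
    have hex : ∀ b : {b : B // b ≠ 1 ∧ b ∉ Fp B P}, ∃ c : P, b.1 • c = c := by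
      rintro ⟨b, hb1, hb2⟩
      unfold Fp at hb2
      simp only [Set.mem_ofPred_eq, ne_eq, not_forall, not_not] at hb2
      exact hb2
    refine Equiv.ofBijective (fun b => ⟨(hex b).choose, ⟨⟨b.1, (hex b).choose_spec⟩, fun h1 => b.2.1 (by
      simpa using congrArg Subtype.val h1)⟩⟩) ⟨?_, ?_⟩
    · intro w w' hww
      have h1 := congrArg (fun s : (Σ d : P, {b : stabilizer B d // b ≠ 1}) => ((s.2.1 : stabilizer B s.1) : B)) hww
      exact Subtype.ext h1
    · rintro ⟨d, ⟨⟨v, hv⟩, hv1⟩⟩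
      have hv1' : v ≠ 1 := fun h1 => hv1 (Subtype.ext h1)
      have hv' : v • d = d := hv
      refine ⟨⟨v, hv1', fun h2 => h2 d hv'⟩, ?_⟩
      have h2 : (hex ⟨v, hv1', fun h2 => h2 d hv'⟩).choose = d := by
        by_contra h3
        exact hv1' (H.one_of_two h3 (hex ⟨v, hv1', fun h2 => h2 d hv'⟩).choose_spec hv')
      have key : ∀ (d' : P) (_ : d' = d) (q : v ∈ stabilizer B d') (q' : (⟨v, q⟩ : stabilizer B d') ≠ 1),
          (⟨d', ⟨⟨v, q⟩, q'⟩⟩ : Σ d : P, {v : stabilizer B d // v ≠ 1}) = ⟨d, ⟨⟨v, hv⟩, hv1⟩⟩ := by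
        rintro d' rfl q q'
        rfl
      exact key _ h2 _ _
  have h2 := Nat.card_congr e1
  rw [Nat.card_sigma] at h2
  have h3 : ∀ d : P, Nat.card {v : stabilizer B d // v ≠ 1} = p ^ a - 1 := by
    intro d
    have := Fintype.ofFinite (stabilizer B d)
    rw [Nat.card_eq_fintype_card, Fintype.card_subtype_compl, Fintype.card_subtype_eq, ← Nat.card_eq_fintype_card,
      H.card_stab]
  simp_rw [h3] at h2
  rw [Finset.sum_const, Finset.card_univ, smul_eq_mul, ← Nat.card_eq_fintype_card, H.card] at h2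
  have h1F : (1 : B) ∉ Fp B P := fun h4 => h4 c₀ (one_smul _ _)
  have h4 : Nat.card B = Nat.card (Fp B P) + Nat.card {b : B // b ≠ 1 ∧ b ∉ Fp B P} + 1 := by
    rw [Nat.card_eq_fintype_card, Nat.card_eq_fintype_card, Nat.card_eq_fintype_card]
    have h5 : (Finset.univ : Finset B) = insert 1 ((Finset.univ.filter (· ∈ Fp B P)) ∪
        (Finset.univ.filter (fun b : B => b ≠ 1 ∧ b ∉ Fp B P))) := by
      ext b
      simp only [Finset.mem_univ, Finset.mem_insert, Finset.mem_union, Finset.mem_filter, true_and, true_iff]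
      tauto
    rw [← Finset.card_univ, h5, Finset.card_insert_of_notMem, Finset.card_union_of_disjoint]
    · rw [Fintype.card_subtype, Fintype.card_subtype]
    · rw [Finset.disjoint_filter]
      intro b _ h6 h7
      exact h7.2 h6
    · simp only [Finset.mem_union, Finset.mem_filter, Finset.mem_univ, true_and, not_or]
      exact ⟨h1F, fun h6 => h6.1 rfl⟩
  rw [h2, H.card_B] at h4
  obtain ⟨k, hk⟩ : ∃ k, p ^ a = k + 1 := ⟨p ^ a - 1, by have := H.q_two; omega⟩
  rw [hk, Nat.add_sub_cancel] at h4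
  rw [hk]
  have : (k + 1 + 1) * (k + 1) = (k + 1 + 1) * k + (k + 1 + 1) := by ring
  omega

/-- the stabiliser of `c` is transitive on the fixed point free elements -/
theorem conj_Fp (c : P) {e f : B} (he : e ∈ Fp B P) (hf : f ∈ Fp B P) :
    ∃ x ∈ stabilizer B c, x * e * x⁻¹ = f := by
  classical
  have hF : ∀ x : B, x * e * x⁻¹ ∈ Fp B P := by
    intro x d h1
    apply he (x⁻¹ • d)
    have h2 : x⁻¹ • (x * e * x⁻¹) • d = x⁻¹ • d := by rw [h1]
    rwa [mul_smul, mul_smul, inv_smul_smul] at h2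
  let φ : stabilizer B c → Fp B P := fun x => ⟨x * e * (x : B)⁻¹, hF x⟩
  have hinj : Function.Injective φ := by
    intro x y hxy
    have h1 : (x : B) * e * (x : B)⁻¹ = y * e * (y : B)⁻¹ := congrArg Subtype.val hxy
    have hz : ((y : B)⁻¹ * x) * e = e * ((y : B)⁻¹ * x) := by
      have h2 : (y : B)⁻¹ * (x * e * (x : B)⁻¹) * x = (y : B)⁻¹ * (y * e * (y : B)⁻¹) * x := by rw [h1]
      simpa [mul_assoc] using h2
    have hzc : ((y : B)⁻¹ * x) • c = c := (mul_mem (inv_mem y.2) x.2 : (y : B)⁻¹ * x ∈ stabilizer B c)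
    have h3 : (y : B)⁻¹ * x = 1 := by
      refine H.one_of_two (Ne.symm (he c)) hzc ?_
      rw [← mul_smul, hz, mul_smul, hzc]
    exact Subtype.ext (inv_mul_eq_one.1 h3).symm
  have hbij : Function.Bijective φ := by
    have := Fintype.ofFinite B
    have := Fintype.ofFinite (stabilizer B c)
    have := Fintype.ofFinite (Fp B P)
    rw [Fintype.bijective_iff_injective_and_card]
    refine ⟨hinj, ?_⟩
    rw [← Nat.card_eq_fintype_card, ← Nat.card_eq_fintype_card, H.card_stab, H.card_Fp]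
  obtain ⟨x, hx⟩ := hbij.2 ⟨f, hf⟩
  exact ⟨x, x.2, congrArg Subtype.val hx⟩

theorem fix_eq {y : B} (hy : y ≠ 1) {c : P} (hc : y • c = c) {w : W} (hw : y • w = w) : w ∈ V c := by
  by_cases h1 : w = 1
  · rw [h1]; exact one_mem _
  obtain ⟨d, hd⟩ := H.cover w
  have h2 := H.eqv y d w hd
  rw [hw] at h2
  by_cases h3 : d = c
  · rwa [h3] at hd
  have h4 : y • d = d := by
    by_contra h4
    exact h1 (H.disj _ _ w h4 h2 hd)
  exact absurd (H.one_of_two h3 h4 hc) hy

theorem fpf {e : B} (he : e ∈ Fp B P) {w : W} (hw : e • w = w) : w = 1 := by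
  by_contra h1
  obtain ⟨d, hd⟩ := H.cover w
  have h2 := H.eqv e d w hd
  rw [hw] at h2
  exact h1 (H.disj _ _ w (he d) h2 hd)

/-- the Frobenius kernel: `p ^ a + 1` is a prime `r` -/
theorem prime_q : ∃ E : Subgroup B, (Nat.card E = p ^ a + 1) ∧ (Nat.card E).Prime ∧ E.Normal ∧
    ∀ e ∈ E, e ≠ 1 → e ∈ Fp B P := by
  classical
  have hp := (Fact.out : p.Prime)
  have hne : Nonempty P := by
    rw [← Finite.card_pos_iff, H.card]
    omega
  obtain ⟨c₀⟩ := hne
  have hq2 := H.q_two
  -- an element of prime order `r`, `r ≠ p`, is fixed point free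
  have hFp : ∀ (r : ℕ), r.Prime → r ≠ p → ∀ (k : ℕ) (e : B), orderOf e = r ^ k → e ≠ 1 → e ∈ Fp B P := by
    intro r hr hrp k e he he1 c hc
    have h1 : e ∈ stabilizer B c := hc
    have h2 : orderOf e ∣ p ^ a := by
      rw [← H.card_stab c, ← Subgroup.orderOf_mk e h1]
      exact orderOf_dvd_natCard _
    have h3 : (r ^ k).Coprime (p ^ a) := Nat.Coprime.pow _ _ ((Nat.coprime_primes hr hp).2 hrp)
    rw [he] at h2
    have h4 := Nat.Coprime.eq_one_of_dvd h3 h2
    rw [h4] at he
    exact he1 (orderOf_eq_one_iff.1 he)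
  have hnp : ∀ r : ℕ, r.Prime → r ∣ p ^ a + 1 → r ≠ p := by
    rintro r hr h1 rfl
    have h2 : r ∣ r ^ a := dvd_pow_self r (by have := H.ha; omega)
    exact hr.one_lt.ne' (Nat.dvd_one.1 ((Nat.dvd_add_right h2).1 h1))
  obtain ⟨r, hr, hrq⟩ := Nat.exists_prime_and_dvd (show p ^ a + 1 ≠ 1 by omega)
  have : Fact r.Prime := ⟨hr⟩
  have hex : ∀ s : ℕ, s.Prime → s ∣ p ^ a + 1 → ∃ e ∈ Fp B P, orderOf e = s := by
    intro s hs hsq
    have : Fact s.Prime := ⟨hs⟩
    obtain ⟨e, he⟩ := exists_prime_orderOf_dvd_card' (G := B) s (by rw [H.card_B]; exact Dvd.dvd.mul_right hsq _)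
    refine ⟨e, hFp s hs (hnp s hs hsq) 1 e (by rw [he, pow_one]) ?_, he⟩
    rintro rfl
    rw [orderOf_one] at he
    exact hs.one_lt.ne he
  obtain ⟨e₀, he₀, hre₀⟩ := hex r hr hrq
  have hall : ∀ f ∈ Fp B P, orderOf f = r := by
    intro f hf
    obtain ⟨x, -, hx⟩ := H.conj_Fp c₀ he₀ hf
    rw [← hx, ← hre₀]
    exact orderOf_injective (MulAut.conj x).toMonoidHom (MulAut.conj x).injective e₀
  have huniq : ∀ s : ℕ, s.Prime → s ∣ p ^ a + 1 → s = r := by
    intro s hs hsq
    obtain ⟨f, hf, hf2⟩ := hex s hs hsq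
    rw [← hf2, hall f hf]
  have hpow : p ^ a + 1 = r ^ (p ^ a + 1).factorization r := by
    have h1 : p ^ a + 1 = r ^ (p ^ a + 1).primeFactorsList.length :=
      Nat.eq_prime_pow_of_unique_prime_dvd (by omega) (fun {d} hd hdq => huniq d hd hdq)
    set l := (p ^ a + 1).primeFactorsList.length with hl
    rw [h1, hr.factorization_pow, Finsupp.single_eq_same]
  -- the Sylow `r`-subgroup
  obtain ⟨S⟩ : Nonempty (Sylow r B) := inferInstance
  have hrp := hnp r hr hrq
  have hcS : Nat.card S = p ^ a + 1 := by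
    rw [Sylow.card_eq_multiplicity, H.card_B, Nat.factorization_mul (by omega) (by positivity), Finsupp.add_apply]
    have h1 : (p ^ a).factorization r = 0 := by
      rw [Nat.factorization_eq_zero_iff]
      right; left
      intro h2
      exact hrp ((Nat.prime_dvd_prime_iff_eq hr hp).1 (hr.dvd_of_dvd_pow h2))
    rw [h1, add_zero, ← hpow]
  have hSF : ∀ e ∈ (S : Subgroup B), e ≠ 1 → e ∈ Fp B P := by
    intro e he he1
    obtain ⟨k, hk⟩ := (IsPGroup.iff_orderOf.1 S.isPGroup') ⟨e, he⟩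
    rw [Subgroup.orderOf_mk] at hk
    exact hFp r hr hrp k e hk he1
  have hFS : ∀ f ∈ Fp B P, f ∈ (S : Subgroup B) := by
    -- cardinality
    have h1 : {e : B | e ∈ (S : Subgroup B) ∧ e ≠ 1} ⊆ Fp B P := fun e he => hSF e he.1 he.2
    have h2 : {e : B | e ∈ (S : Subgroup B) ∧ e ≠ 1} = Fp B P := by
      refine Set.eq_of_subset_of_ncard_le h1 ?_ (Set.toFinite _)
      have h3 : (Fp B P).ncard = p ^ a := by
        rw [← Nat.card_coe_set_eq]
        exact H.card_Fp
      have h4 : ((S : Subgroup B) : Set B).ncard = p ^ a + 1 := by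
        rw [← Nat.card_coe_set_eq]
        exact hcS
      have h5 : {e : B | e ∈ (S : Subgroup B) ∧ e ≠ 1} = ((S : Subgroup B) : Set B) \ {1} :=
        Set.ext fun e => Iff.rfl
      rw [h3, h5, Set.ncard_sdiff_singleton_of_mem (one_mem _), h4]
      omega
    intro f hf
    rw [← h2] at hf
    exact hf.1
  have hnorm : (S : Subgroup B).Normal := by
    constructor
    intro e he g
    by_cases h1 : e = 1
    · rw [h1]; simp [one_mem]
    · apply hFS
      intro d h2
      apply hSF e he h1 (g⁻¹ • d)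
      have h3 : g⁻¹ • (g * e * g⁻¹) • d = g⁻¹ • d := by rw [h2]
      rwa [mul_smul, mul_smul, inv_smul_smul] at h3
  have hSnt : Nontrivial (S : Subgroup B) := by
    rw [← Finite.one_lt_card_iff_nontrivial]
    have : Nat.card (S : Subgroup B) = p ^ a + 1 := hcS
    omega
  -- commutative
  have hcomm : ∀ x y : (S : Subgroup B), x * y = y * x := by
    haveI := S.isPGroup'.center_nontrivial
    obtain ⟨z, hz⟩ := exists_ne (1 : Subgroup.center (S : Subgroup B))
    have hz1 : ((z : (S : Subgroup B)) : B) ≠ 1 := fun h1 => hz (Subtype.ext (Subtype.ext h1))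
    have hzF := hSF _ (z : (S : Subgroup B)).2 hz1
    intro x y
    by_cases hx1 : (x : B) = 1
    · have : x = 1 := Subtype.ext hx1
      rw [this, one_mul, mul_one]
    obtain ⟨g, -, hg⟩ := H.conj_Fp c₀ hzF (hSF x x.2 hx1)
    have h1 : g⁻¹ * y * g ∈ (S : Subgroup B) := by
      have := hnorm.conj_mem y y.2 g⁻¹
      rwa [inv_inv] at this
    have h2 := Subgroup.mem_center_iff.1 z.2 ⟨_, h1⟩
    have h3 : g⁻¹ * y * g * ((z : (S : Subgroup B)) : B) = ((z : (S : Subgroup B)) : B) * (g⁻¹ * y * g) :=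
      congrArg Subtype.val h2
    apply Subtype.ext
    show (x : B) * y = y * x
    rw [← hg]
    have h4 : g * (g⁻¹ * y * g * ((z : (S : Subgroup B)) : B)) * g⁻¹ =
      g * (((z : (S : Subgroup B)) : B) * (g⁻¹ * y * g)) * g⁻¹ := by rw [h3]
    simpa [mul_assoc] using h4.symm
  -- cyclic
  have hcyc : IsCyclic (S : Subgroup B) := by
    haveI : Nontrivial W := by
      obtain ⟨v, -, hv⟩ := H.ne c₀
      exact ⟨v, 1, hv⟩
    refine Solvable.FixedPointFree.isCyclic_of_comm' hcomm
      ((MulDistribMulAction.toMulAut B W).comp (S : Subgroup B).subtype) ?_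
    intro x hx v hv
    exact H.fpf (hSF x x.2 fun h1 => hx (Subtype.ext h1)) hv
  have hcard : Nat.card S = r := by
    obtain ⟨g, hg⟩ := hcyc.exists_generator
    have h1 : orderOf g = Nat.card (S : Subgroup B) := orderOf_eq_card_of_forall_mem_zpowers hg
    have hg1 : (g : B) ≠ 1 := by
      intro h2
      have h3 : g = 1 := Subtype.ext h2
      rw [h3, orderOf_one] at h1
      have : Nat.card (S : Subgroup B) = p ^ a + 1 := hcS
      omega
    have h2 := hall _ (hSF g g.2 hg1)
    rw [Subgroup.orderOf_coe] at h2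
    show Nat.card (S : Subgroup B) = r
    rw [← h1, h2]
  exact ⟨S, hcS, by rw [show Nat.card (S : Subgroup B) = r from hcard]; exact hr, hnorm, hSF⟩

theorem main : p = 2 ∧ a = 1 := by
  classical
  have hp := (Fact.out : p.Prime)
  have hne : Nonempty P := by
    rw [← Finite.card_pos_iff, H.card]
    omega
  obtain ⟨c⟩ := hne
  obtain ⟨E, hE1, hE2, hE3, hE4⟩ := H.prime_q
  have ha := H.ha
  have hq2 := H.q_two
  have hp2 : p = 2 := by
    rcases hp.eq_two_or_odd' with h1 | h1
    · exact h1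
    · exfalso
      rw [hE1] at hE2
      have h2 : Even (p ^ a + 1) := (h1.pow).add_one
      have h3 := (Nat.Prime.even_iff hE2).1 h2
      omega
  refine ⟨hp2, ?_⟩
  by_contra ha1
  have ha2 : 2 ≤ a := by omega
  -- the stabiliser is cyclic
  haveI : Fact (Nat.card E).Prime := ⟨hE2⟩
  have hEc : IsCyclic E := isCyclic_of_prime_card rfl
  have hEnt : Nontrivial E := by
    rw [← Finite.one_lt_card_iff_nontrivial]
    exact hE2.one_lt
  obtain ⟨e, he⟩ := exists_ne (1 : E)
  have heF : (e : B) ∈ Fp B P := hE4 e e.2 fun h1 => he (Subtype.ext h1)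
  have hcyc : IsCyclic (stabilizer B c) := by
    haveI := hE3
    let ψ : stabilizer B c →* MulAut E := (MulAut.conjNormal (H := E)).comp (stabilizer B c).subtype
    have hinj : Function.Injective ψ := by
      rw [injective_iff_map_eq_one]
      intro x hx
      have h1 : ψ x e = e := by rw [hx]; rfl
      have h2 : (x : B) * e * (x : B)⁻¹ = e := by
        have := congrArg Subtype.val h1
        simpa [ψ, MulAut.conjNormal_apply] using this
      have h3 : (x : B) * e = e * x := mul_inv_eq_iff_eq_mul.1 h2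
      have hxc : (x : B) • c = c := x.2
      apply Subtype.ext
      refine H.one_of_two (Ne.symm (heF c)) hxc ?_
      rw [← mul_smul, h3, mul_smul, hxc]
    haveI : IsCyclic (MulAut E) := by
      haveI : IsCyclic (ZMod (Nat.card E))ˣ := ZMod.isCyclic_units_prime hE2
      exact isCyclic_of_injective (IsCyclic.mulAutMulEquiv E).toMonoidHom (IsCyclic.mulAutMulEquiv E).injective
    exact isCyclic_of_injective ψ hinj
  obtain ⟨g, hg⟩ := hcyc.exists_generator
  have hog : orderOf g = 2 ^ a := by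
    rw [orderOf_eq_card_of_forall_mem_zpowers hg, H.card_stab, hp2]
  set y : B := (g : B) with hy
  have hoy : orderOf y = 2 ^ a := by rw [hy, Subgroup.orderOf_coe, hog]
  have hyc : y • c = c := g.2
  have hy1 : y ≠ 1 := by
    intro h1
    rw [h1, orderOf_one] at hoy
    have : 2 ^ a > 1 := Nat.one_lt_two_pow (by omega)
    omega
  have hy2 : y ^ 2 ≠ 1 := by
    intro h1
    have h2 := orderOf_dvd_of_pow_eq_one h1
    rw [hoy] at h2
    have h3 := Nat.le_of_dvd (by norm_num) h2
    have : 2 ^ 2 ≤ 2 ^ a := Nat.pow_le_pow_right (by norm_num) ha2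
    omega
  have hy2c : y ^ 2 • c = c := by rw [pow_two, mul_smul, hyc, hyc]
  have hexp : ∀ w : W, w * w = 1 := fun w => by
    have := H.exp w
    rwa [hp2, pow_two] at this
  have hsq : ∀ (z : B) (w : W), z • (z • w * w⁻¹) * (z • w * w⁻¹)⁻¹ = (z ^ 2) • w * w⁻¹ := by
    intro z w
    have h1 : (z • w)⁻¹ = z • w := inv_eq_of_mul_eq_one_left (hexp _)
    have h2 : w⁻¹ = w := inv_eq_of_mul_eq_one_left (hexp _)
    rw [mul_inv, inv_inv, h1, h2, smul_mul', pow_two, mul_smul]
    have h3 : z • z • w * z • w * (z • w * w) = z • z • w * (z • w * z • w) * w := by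
      simp only [mul_assoc]
    rw [h3, hexp, mul_one]
  let D : W → W := fun w => y • w * w⁻¹
  have hD2 : ∀ w, D (D w) = 1 → D w = 1 := by
    intro w hw
    have h1 : (y ^ 2) • w * w⁻¹ = 1 := by rw [← hsq y w]; exact hw
    have h2 : y ^ 2 • w = w := mul_inv_eq_one.1 h1
    have h3 := H.fix_eq hy2 hy2c h2
    exact mul_inv_eq_one.2 (H.cent y c w hyc h3)
  have hDn : ∀ (n : ℕ) (w : W), D^[n + 1] w = 1 → D w = 1 := by
    intro n
    induction n with
    | zero => intro w hw; exact hw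
    | succ n ih =>
      intro w hw
      apply ih
      rw [Function.iterate_succ_apply' D (n + 1) w, Function.iterate_succ_apply' D n w] at hw
      rw [Function.iterate_succ_apply' D n w]
      exact hD2 _ hw
  have hDp : ∀ (k : ℕ) (w : W), D^[2 ^ k] w = (y ^ 2 ^ k) • w * w⁻¹ := by
    intro k
    induction k with
    | zero => intro w; simp [D]
    | succ k ih =>
      intro w
      have h1 : 2 ^ (k + 1) = 2 ^ k + 2 ^ k := by ring
      rw [h1, Function.iterate_add_apply, ih w, ih, hsq, ← pow_mul, ← h1, pow_succ]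
  have htriv : ∀ w : W, w ∈ V c := by
    intro w
    have h1 : D^[2 ^ a] w = 1 := by
      rw [hDp, ← hoy, pow_orderOf_eq_one, one_smul, mul_inv_cancel]
    obtain ⟨m, hm⟩ : ∃ m, 2 ^ a = m + 1 := ⟨2 ^ a - 1, by have := Nat.one_le_two_pow (n := a); omega⟩
    rw [hm] at h1
    exact H.fix_eq hy1 hyc (mul_inv_eq_one.1 (hDn m w h1))
  obtain ⟨d, hd, -⟩ := H.exists_third c c
  obtain ⟨v, hv, hv1⟩ := H.ne d
  exact hv1 (H.disj d c v hd hv (htriv v))

end Pan

/-- **the panel lemma** -/
theorem panel {p a : ℕ} [Fact p.Prime] {A W P : Type*} [Group A] [CommGroup W] [Finite W] [Finite P]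
    (ρ : A →* MulAut W) (σ : A →* Equiv.Perm P) (V : P → Subgroup W) (hexp : ∀ w : W, w ^ p = 1) (ha : 1 ≤ a)
    (hcard : Nat.card P = p ^ a + 1) (eqv : ∀ (g : A) (c : P) (v : W), v ∈ V c → ρ g v ∈ V (σ g c))
    (cent : ∀ (g : A) (c : P) (v : W), σ g c = c → v ∈ V c → ρ g v = v) (cover : ∀ w : W, ∃ c, w ∈ V c)
    (disj : ∀ (c d : P) (w : W), c ≠ d → w ∈ V c → w ∈ V d → w = 1) (ne : ∀ c, ∃ v ∈ V c, v ≠ 1)
    (two : ∀ c d d' : P, d ≠ c → d' ≠ c → ∃ g : A, σ g c = c ∧ σ g d = d') :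
    p = 2 ∧ a = 1 ∧ Nat.card W = 4 ∧ ∀ c, Nat.card (V c) = 2 := by
  classical
  have hK : ρ.ker ≤ σ.ker := by
    intro g hg
    rw [MonoidHom.mem_ker] at hg ⊢
    ext c
    obtain ⟨v, hv, hv1⟩ := ne c
    have h1 := eqv g c v hv
    rw [hg] at h1
    by_contra h2
    exact hv1 (disj _ _ v h2 h1 hv)
  let ρ' : A ⧸ ρ.ker →* MulAut W := QuotientGroup.kerLift ρ
  let σ' : A ⧸ ρ.ker →* Equiv.Perm P := QuotientGroup.lift ρ.ker σ hK
  letI i1 : MulAction (A ⧸ ρ.ker) P := MulAction.compHom P σ'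
  letI i2 : MulDistribMulAction (A ⧸ ρ.ker) W := MulDistribMulAction.compHom W ρ'
  have e1 : ∀ (g : A) (c : P), (QuotientGroup.mk g : A ⧸ ρ.ker) • c = σ g c := fun _ _ => rfl
  have e2 : ∀ (g : A) (v : W), (QuotientGroup.mk g : A ⧸ ρ.ker) • v = ρ g v := fun _ _ => rfl
  have hfin : Finite (A ⧸ ρ.ker) := Finite.of_injective ρ' (QuotientGroup.kerLift_injective ρ)
  have hfaith : FaithfulSMul (A ⧸ ρ.ker) W := ⟨fun {x y} hxy => QuotientGroup.kerLift_injective ρ (by
    ext v
    exact hxy v)⟩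
  have H : Pan p a (A ⧸ ρ.ker) W P V :=
    { exp := hexp
      ha := ha
      card := hcard
      eqv := by
        rintro ⟨g⟩ c v hv
        exact eqv g c v hv
      cent := by
        rintro ⟨g⟩ c v hc hv
        exact cent g c v hc hv
      cover := cover
      disj := disj
      ne := ne
      two := by
        intro c d d' h1 h2
        obtain ⟨g, hg⟩ := two c d d' h1 h2
        exact ⟨QuotientGroup.mk g, hg⟩ }
  obtain ⟨h1, h2⟩ := H.main
  have hne : Nonempty P := by
    rw [← Finite.card_pos_iff, hcard]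
    omega
  refine ⟨h1, h2, ?_, fun c => ?_⟩
  · obtain ⟨c⟩ := hne
    rw [(H.cards c).2, h1, h2]
    norm_num
  · rw [(H.cards c).1, h1, h2]
    norm_num

end Cfsg.Agent.H470.EPO
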