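import Cfsg.Agent.H470.EPK.ParOfVJ
import Cfsg.Agent.H284.EP.Engine

/-!
# The `G`-side of the own characteristic case (helper470, S3499 layer VII)

* `exists_canonV` : Borel–Tits, canonical form: a nontrivial `p`-subgroup `D` of a group with root group datum lies in
  `V_J^g`, where `V_J^g` and `P_J^g` are fixed by all automorphisms fixing `D`;
* `eq_PJ_of` : a proper subgroup containing some `V_J^g` which is maximal among the subgroups invariant under a set of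
  automorphisms is parabolic;
* `exists_QQ` : the `p`-group `QQ` of helper284's `exists_vecB`.
-/

set_option autoImplicit false
set_option linter.unusedSectionVars false

namespace Cfsg.Agent.H470.EPO

open CoxeterSystem Cfsg.Agent.ChevalleyStructure.CoxeterGeom Cfsg.Agent.Tits.Roots Cfsg.Agent.Tits.Core
  Cfsg.Agent.Tits.RootComb Cfsg.Agent.Tits.Exchange Cfsg.Agent.Nodes.Reps Cfsg.Agent.Nodes.BNOf
  Cfsg.Agent.Nodes.StabComb Cfsg.Agent.Nodes.Bruhat Cfsg.Agent.Nodes.OppDec Cfsg.Agent.Nodes.LeviDec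
  Cfsg.Agent.Nodes.Coroot Cfsg.Agent.KFacts.RgdPar Cfsg.Agent.KFacts.RgdSL Cfsg.Agent.KFacts.RgdVJ
  Cfsg.Agent.KFacts.RgdCharP Cfsg.Agent.H470.EPK

variable {I W Y : Type*} [Fintype I] [DecidableEq I] [Group W] [Group Y] {M : CoxeterMatrix I}
  {cs : CoxeterSystem M W} {A : I → I → ℤ} {h : IsCartan M A} {p : ℕ} {T : Subgroup Y} {n : I → Y}
  {X : (I → ℤ) → Subgroup Y}

variable (R : RGD cs h p T n X)

include R

theorem VJ_ne_bot {J : Set I} (hJ : J ≠ Set.univ) : VJ cs h X J ≠ ⊥ := by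
  obtain ⟨i, hi⟩ : ∃ i, i ∉ J := by
    by_contra hcon
    push Not at hcon
    exact hJ (Set.eq_univ_of_forall hcon)
  intro h5
  have h4 : X (sr i) ≤ VJ cs h X J := RGD.le_Sup (sr_mem_NotJ hi)
  exact X_ne_bot R (isRoot_sr cs h i) (le_bot_iff.1 (h5 ▸ h4))

theorem PJ_ne_top [Finite W] {J : Set I} (hJ : J ≠ Set.univ) : PJ cs h T X J ≠ ⊤ := by
  obtain ⟨i, hi⟩ : ∃ i, i ∉ J := by
    by_contra hcon
    push Not at hcon
    exact hJ (Set.eq_univ_of_forall hcon)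
  intro h1
  have h2 : n i ∈ PJ cs h T X J := by rw [h1]; exact Subgroup.mem_top _
  rw [cell_mem_PJ_iff R (cell_of_rp (rp_simple cs R.nsys i))] at h2
  have h3 : rep cs h (cs.simple i) (sr i) ∈ NotJ cs h J := NotJ.act h2 (sr_mem_NotJ hi)
  have h4 : rep cs h (cs.simple i) (sr i) = -sr i := rep_simple_sr cs h i
  rw [h4] at h3
  have h5 := h3.2.1 i
  rw [Pi.neg_apply, sr_self] at h5
  norm_num at h5

theorem cj_PJ_ne_top [Finite W] {J : Set I} (hJ : J ≠ Set.univ) (g : Y) : cj g (PJ cs h T X J) ≠ ⊤ := by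
  intro h1
  apply PJ_ne_top R hJ
  rw [← cj_inv_cj g (PJ cs h T X J), h1]
  exact Subgroup.map_top_of_surjective _ (MulAut.conj g⁻¹).surjective

theorem cj_VJ_ne_bot {J : Set I} (hJ : J ≠ Set.univ) (g : Y) : cj g (VJ cs h X J) ≠ ⊥ := by
  intro h1
  apply VJ_ne_bot R hJ
  rw [← cj_inv_cj g (VJ cs h X J), h1]
  exact Subgroup.map_bot _

omit R in
theorem le_core [Finite Y] [Fact p.Prime] {N A : Subgroup Y} (hAN : A ≤ N)
    (hn : ∀ g ∈ N, ∀ a ∈ A, g * a * g⁻¹ ∈ A) (hA : IsPGroup p A) : A ≤ (pCore p ↥N).map N.subtype := by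
  have hAn : (A.subgroupOf N).Normal := by
    refine ⟨fun a ha g => ?_⟩
    rw [Subgroup.mem_subgroupOf] at ha ⊢
    exact hn g g.2 a ha
  have h1 := Lib.Cores.le_pCore hAn (hA.comap_subtype (K := N))
  have h2 := Subgroup.map_mono (f := N.subtype) h1
  rwa [Subgroup.subgroupOf_map_subtype, inf_eq_left.2 hAN] at h2

theorem PJ_le_norm [Finite W] {J : Set I} {g : Y} :
    cj g (PJ cs h T X J) ≤ Subgroup.normalizer (cj g (VJ cs h X J) : Set Y) := by
  rintro _ ⟨a, ha, rfl⟩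
  have h5 : cj a (VJ cs h X J) = VJ cs h X J := mem_normalizer_iff_cj.1 (PJ_le_normalizer_VJ R J ha)
  rw [mem_normalizer_iff_cj]
  show cj (g * a * g⁻¹) (cj g (VJ cs h X J)) = _
  rw [← cj_mul, inv_mul_cancel_right, cj_mul, h5]

/-- **canonical Borel–Tits** -/
theorem exists_canonV [Finite W] [Finite Y] [Fact p.Prime] (hBT : BT cs h p T X) {D : Subgroup Y}
    (hp : IsPGroup p D) (h1 : D ≠ ⊥) :
    ∃ (J : Set I) (g : Y), J ≠ Set.univ ∧ D ≤ cj g (VJ cs h X J) ∧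
      (∀ φ : MulAut Y, H459.Gallery.Iv φ D → H459.Gallery.Iv φ (cj g (VJ cs h X J))) ∧
      ∀ φ : MulAut Y, H459.Gallery.Iv φ D → H459.Gallery.Iv φ (cj g (PJ cs h T X J)) := by
  classical
  obtain ⟨Q, ⟨hQ1, hQ2, hQ3⟩, hmax⟩ := Set.exists_max_image {Q : Subgroup Y | D ≤ Q ∧ IsPGroup p Q ∧
      ∀ φ : MulAut Y, H459.Gallery.Iv φ D → H459.Gallery.Iv φ Q}
    (fun Q => Nat.card Q) (Set.toFinite _) ⟨D, le_rfl, hp, fun φ hφ => hφ⟩
  have hQne : Q ≠ ⊥ := fun h2 => h1 (le_bot_iff.1 (h2 ▸ hQ1))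
  set N := Subgroup.normalizer (Q : Set Y) with hNd
  have hNφ : ∀ φ : MulAut Y, H459.Gallery.Iv φ D → H459.Gallery.Iv φ N := fun φ hφ => iv_normalizer (hQ3 φ hφ)
  have hQN : Q ≤ N := Subgroup.le_normalizer
  have hQO : Q ≤ (pCore p ↥N).map N.subtype :=
    le_core hQN (fun g hg a ha => (Subgroup.mem_normalizer_iff.1 hg a).1 ha) hQ2
  have hOQ : (pCore p ↥N).map N.subtype = Q := by
    refine (Subgroup.eq_of_le_of_card_ge hQO (hmax _ ⟨hQ1.trans hQO,
      (Lib.Cores.pCore_isPGroup (G := N) p).map _, fun φ hφ => H459.RgdRad.iv_core (hNφ φ hφ)⟩)).symm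
  obtain ⟨g, J, hJ, h3, h4⟩ := hBT Q hQ2 hQne
  set V := cj g (VJ cs h X J) with hV
  have hVp : IsPGroup p V := (isPGroup_VJ R J).map _
  have hPV : cj g (PJ cs h T X J) ≤ Subgroup.normalizer (V : Set Y) := PJ_le_norm R
  have hVQ : V = Q := by
    by_contra hne
    have h5 := SmallSimple.SylowMaxInter.lt_inf_normalizer hVp (lt_of_le_of_ne h3 (Ne.symm hne))
    have h6 : V ⊓ N ≤ Q := by
      rw [← hOQ]
      refine le_core inf_le_right (fun k hk v hv => ⟨?_, N.mul_mem (N.mul_mem hk hv.2) (N.inv_mem hk)⟩)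
        (hVp.to_le inf_le_left)
      exact (Subgroup.mem_normalizer_iff.1 (hPV (h4 hk)) v).1 hv.1
    exact lt_irrefl _ (lt_of_lt_of_le h5 h6)
  have hNP : N = cj g (PJ cs h T X J) := le_antisymm h4 (by rw [hNd, ← hVQ]; exact hPV)
  refine ⟨J, g, hJ, ?_, ?_, ?_⟩
  · rw [← hV, hVQ]; exact hQ1
  · intro φ hφ
    rw [← hV, hVQ]; exact hQ3 φ hφ
  · intro φ hφ
    rw [← hNP]; exact hNφ φ hφ

omit R in
theorem exists_conj {G : Type*} [Group G] {j : Y →* G} (hj : Function.Injective j) (hn : j.range.Normal) (g : G) :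
    ∃ φ : MulAut Y, ∀ y, j (φ y) = g * j y * g⁻¹ := by
  let e : Y ≃* j.range := MonoidHom.ofInjective hj
  let c : MulAut j.range := MulAut.conjNormal g
  refine ⟨(e.trans c).trans e.symm, fun y => ?_⟩
  have h1 : (e (e.symm (c (e y))) : G) = j (e.symm (c (e y))) := rfl
  show j (e.symm (c (e y))) = _
  rw [← h1, e.apply_symm_apply]
  exact MulAut.conjNormal_apply g (e y)

/-- a maximal core free subgroup `H` of a group `G` with normal subgroup `Y`: `H ∩ Y` does not contain `V_J^g` -/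
theorem not_VJ_le [Finite W] [Finite Y] [Fact p.Prime] (hBT : BT cs h p T X) (hG : GG cs h T X = ⊤)
    (hX : RGD.Sup X {x | IsRoot cs h x} = ⊤) (hconn : Conn M) {G : Type*} [Group G] [Finite G] {j : Y →* G}
    (hj : Function.Injective j) (hn : j.range.Normal) {H : Subgroup G} (hmax : IsCoatom H)
    (hcore : ¬ j.range ≤ H) (hOp : ∀ K ≤ H, (∀ g ∈ H, ∀ k ∈ K, g * k * g⁻¹ ∈ K) → IsPGroup p K → K = ⊥)
    {J : Set I} (hJ : J ≠ Set.univ) {g : Y} (hV : cj g (VJ cs h X J) ≤ H.comap j) : False := by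
  classical
  set K := H.comap j with hK
  have hKtop : K ≠ ⊤ := by
    intro h1
    apply hcore
    rintro _ ⟨y, rfl⟩
    have : y ∈ K := by rw [h1]; exact Subgroup.mem_top _
    exact this
  obtain ⟨J', g', hJ', h2, h3⟩ := par_of_VJ R hBT hG hX hconn hKtop hJ hV
  set Q := cj g' (PJ cs h T X J') with hQ
  have hinv : ∀ a ∈ H, ∀ y ∈ K, ∀ φ : MulAut Y, (∀ y, j (φ y) = a * j y * a⁻¹) → φ y ∈ K := by
    intro a ha y hy φ hφ
    show j (φ y) ∈ H
    rw [hφ]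
    exact mul_mem (mul_mem ha hy) (inv_mem ha)
  have hQH : ∀ a ∈ H, ∀ x ∈ Q, ∃ x' ∈ Q, a * j x * a⁻¹ = j x' := by
    intro a ha x hx
    obtain ⟨φ, hφ⟩ := exists_conj hj hn a
    exact ⟨φ x, h3 φ (fun y hy => hinv a ha y hy φ hφ) x hx, (hφ x).symm⟩
  -- the product
  let L : Subgroup G :=
    { carrier := {y | ∃ a ∈ H, ∃ x ∈ Q, y = a * j x}
      one_mem' := ⟨1, one_mem _, 1, one_mem _, by rw [map_one, mul_one]⟩
      mul_mem' := by
        rintro _ _ ⟨a, ha, x, hx, rfl⟩ ⟨b, hb, y, hy, rfl⟩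
        obtain ⟨x', hx', e⟩ := hQH b⁻¹ (inv_mem hb) x hx
        refine ⟨a * b, mul_mem ha hb, x' * y, mul_mem hx' hy, ?_⟩
        rw [map_mul, ← e]
        group
      inv_mem' := by
        rintro _ ⟨a, ha, x, hx, rfl⟩
        obtain ⟨x', hx', e⟩ := hQH a ha x⁻¹ (inv_mem hx)
        refine ⟨a⁻¹, inv_mem ha, x', hx', ?_⟩
        rw [← e, map_inv]
        group }
  have hHL : H ≤ L := fun a ha => ⟨a, ha, 1, one_mem _, by rw [map_one, mul_one]⟩
  rcases hHL.lt_or_eq with h4 | h4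
  · have h5 : L = ⊤ := hmax.2 L h4
    apply cj_PJ_ne_top R hJ' g'
    rw [Subgroup.eq_top_iff']
    intro y
    have h6 : j y ∈ L := by rw [h5]; exact Subgroup.mem_top _
    obtain ⟨a, ha, x, hx, e⟩ := h6
    have h7 : y * x⁻¹ ∈ K := by
      show j (y * x⁻¹) ∈ H
      rw [map_mul, map_inv, e, mul_inv_cancel_right]
      exact ha
    have h8 := mul_mem (h2 h7) hx
    rwa [inv_mul_cancel_right] at h8
  · have h5 : Q ≤ K := by
      intro x hx
      have h6 : j x ∈ L := ⟨1, one_mem _, x, hx, by rw [one_mul]⟩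
      rw [← h4] at h6
      exact h6
    set V := cj g' (VJ cs h X J') with hVd
    have hVQ : V ≤ Q := Subgroup.map_mono ((VJ_le_B J').trans B_le_PJ)
    have hVp : IsPGroup p V := (isPGroup_VJ R J').map _
    have hVO : V ≤ (pCore p ↥K).map K.subtype := by
      refine le_core (hVQ.trans h5) (fun x hx v hv => ?_) hVp
      have hxQ : x ∈ Q := h2 hx
      exact (Subgroup.mem_normalizer_iff.1 (PJ_le_norm R hxQ) v).1 hv
    set O : Subgroup Y := (pCore p ↥K).map K.subtype with hO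
    have hOp' : IsPGroup p O := (Lib.Cores.pCore_isPGroup (G := K) p).map _
    have hOK : O ≤ K := by
      rintro _ ⟨y, _, rfl⟩
      exact y.2
    have h6 := hOp (O.map j) (by
      rintro _ ⟨y, hy, rfl⟩
      exact hOK hy) (by
      rintro a ha _ ⟨y, hy, rfl⟩
      obtain ⟨φ, hφ⟩ := exists_conj hj hn a
      rw [← hφ]
      exact ⟨φ y, H459.RgdRad.iv_core (fun z hz => hinv a ha z hz φ hφ) y hy, rfl⟩) (hOp'.map _)
    rw [Subgroup.map_eq_bot_iff_of_injective _ hj] at h6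
    exact cj_VJ_ne_bot R hJ' g' (le_bot_iff.1 (h6 ▸ hVO))

/-- the `p`-group of `exists_vecB` -/
theorem exists_QQ [Finite W] [Finite Y] [Fact p.Prime] (hBT : BT cs h p T X) (hG : GG cs h T X = ⊤)
    (hX : RGD.Sup X {x | IsRoot cs h x} = ⊤) (hconn : Conn M) {G : Type*} [Group G] [Finite G] {j : Y →* G}
    (hj : Function.Injective j) (hn : j.range.Normal) {H : Subgroup G} (hmax : IsCoatom H)
    (hcore : ¬ j.range ≤ H) (hOp : ∀ K ≤ H, (∀ g ∈ H, ∀ k ∈ K, g * k * g⁻¹ ∈ K) → IsPGroup p K → K = ⊥)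
    {D P : Subgroup G} (hDj : D ≤ j.range) (hDp : IsPGroup p D) (hD1 : D ≠ ⊥) (hDH : D ≤ H)
    (hPH : P ≤ H) (hDn : ∀ g ∈ P, ∀ d ∈ D, g * d * g⁻¹ ∈ D)
    (hDmax : ∀ S : Subgroup G, IsPGroup p S → S ≤ H → S ≤ j.range → (∀ g ∈ P, ∀ s ∈ S, g * s * g⁻¹ ∈ S) → S ≤ D) :
    ∃ Q : Subgroup G, IsPGroup p Q ∧ Q ≤ j.range ∧ (∀ g ∈ P, ∀ w ∈ Q, g * w * g⁻¹ ∈ Q) ∧ D ≤ Q ∧ Q ⊓ H = D ∧
      Q ≠ D := by
  classical
  have hD' : D = (D.comap j).map j := by
    rw [Subgroup.map_comap_eq, inf_eq_right.2 hDj]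
  have hD1' : D.comap j ≠ ⊥ := fun h1 => hD1 (by rw [hD', h1, Subgroup.map_bot])
  have hDp' : IsPGroup p (D.comap j) := hDp.comap_of_injective j hj
  obtain ⟨J, g, hJ, h1, h2, -⟩ := exists_canonV R hBT hDp' hD1'
  set V := cj g (VJ cs h X J) with hV
  have hVp : IsPGroup p V := (isPGroup_VJ R J).map _
  have hDV : D ≤ V.map j := by
    rw [hD']
    exact Subgroup.map_mono h1
  have hn' : ∀ g ∈ P, ∀ w ∈ V.map j, g * w * g⁻¹ ∈ V.map j := by
    rintro a ha _ ⟨y, hy, rfl⟩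
    obtain ⟨φ, hφ⟩ := exists_conj hj hn a
    rw [← hφ]
    refine ⟨φ y, h2 φ (fun z hz => ?_) y hy, rfl⟩
    show j (φ z) ∈ D
    rw [hφ]
    exact hDn a ha _ hz
  refine ⟨V.map j, hVp.map _, ?_, hn', hDV, ?_, ?_⟩
  · rintro _ ⟨y, _, rfl⟩
    exact ⟨y, rfl⟩
  · apply le_antisymm
    · refine hDmax _ ((hVp.map j).to_le inf_le_left) inf_le_right ?_ ?_
      · rintro _ ⟨⟨y, _, rfl⟩, _⟩
        exact ⟨y, rfl⟩
      · rintro a ha w ⟨hw1, hw2⟩
        exact ⟨hn' a ha w hw1, H.mul_mem (H.mul_mem (hPH ha) hw2) (H.inv_mem (hPH ha))⟩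
    · exact le_inf hDV hDH
  · intro h3
    refine not_VJ_le R hBT hG hX hconn hj hn hmax hcore hOp hJ (g := g) ?_
    intro v hv
    have h4 : j v ∈ V.map j := ⟨v, hv, rfl⟩
    rw [h3] at h4
    exact hDH h4

end Cfsg.Agent.H470.EPO
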