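import Cfsg.Agent.H470.EPO.R1

/-!
# Transport of the rank one data along an isomorphism (helper470)
-/

set_option autoImplicit false
set_option linter.unusedSectionVars false

namespace Cfsg.Agent.H470.EPO

open Cfsg.Agent.H284 Cfsg.Agent.H737.EPO

namespace R1

variable {T S : Type*} [Group T] [Group S] {p : ℕ}

theorem mem_comap_cj (e : T ≃* S) (K : Subgroup S) (x t : T) :
    t ∈ cj x (K.comap e.toMonoidHom) ↔ e t ∈ cj (e x) K := by
  rw [mem_cj, mem_cj, Subgroup.mem_comap]
  show e (x⁻¹ * t * x) ∈ K ↔ _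
  rw [map_mul, map_mul, map_inv]

theorem comap_cj (e : T ≃* S) (K : Subgroup S) (x : T) :
    cj x (K.comap e.toMonoidHom) = (cj (e x) K).comap e.toMonoidHom := by
  ext t
  rw [mem_comap_cj]
  rfl

theorem comap_inj (e : T ≃* S) {K L : Subgroup S} (h : K.comap e.toMonoidHom = L.comap e.toMonoidHom) : K = L := by
  ext s
  have h1 : e.symm s ∈ K.comap e.toMonoidHom ↔ e.symm s ∈ L.comap e.toMonoidHom := by rw [h]
  have h2 : e.toMonoidHom (e.symm s) = s := e.apply_symm_apply s
  rw [Subgroup.mem_comap, Subgroup.mem_comap, h2] at h1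
  exact h1

theorem comap_map (e : T ≃* S) (K : Subgroup T) : (K.map e.toMonoidHom).comap e.toMonoidHom = K :=
  Subgroup.comap_map_eq_self_of_injective e.injective K

theorem map_comap (e : T ≃* S) (K : Subgroup S) : (K.comap e.toMonoidHom).map e.toMonoidHom = K :=
  Subgroup.map_comap_eq_self_of_surjective e.surjective K

/-- **transport of the data** -/
def ofEquiv (e : T ≃* S) (D : R1 p S) : R1 p T where
  U := D.U.comap e.toMonoidHom
  B := D.B.comap e.toMonoidHom
  w := e.symm D.w
  nU := by
    ext x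
    rw [Subgroup.mem_normalizer_iff_map_conj_eq, Subgroup.mem_comap, ← D.nU, Subgroup.mem_normalizer_iff_map_conj_eq]
    have h1 : cj x (D.U.comap e.toMonoidHom) = (cj (e x) D.U).comap e.toMonoidHom := comap_cj e D.U x
    constructor
    · intro h
      exact comap_inj e (h1.symm.trans h)
    · intro h
      exact h1.trans (congrArg (fun K => Subgroup.comap e.toMonoidHom K) h)
  pU := D.pU.comap_of_injective e.toMonoidHom e.injective
  mU L hL hp := by
    have h1 : D.U ≤ L.map e.toMonoidHom := by
      have := Subgroup.map_mono (f := e.toMonoidHom) hL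
      rwa [map_comap] at this
    have h2 := D.mU _ h1 (hp.map _)
    rw [← h2, comap_map]
  wB h := D.wB (by
    have h1 : e.toMonoidHom (e.symm D.w) ∈ D.B := h
    have h2 : e.toMonoidHom (e.symm D.w) = D.w := e.apply_symm_apply _
    rwa [h2] at h1)
  ww := by
    show e (e.symm D.w * e.symm D.w) ∈ D.B
    rw [map_mul, e.apply_symm_apply]
    exact D.ww
  tr g hg := by
    obtain ⟨u, hu, b, hb, h⟩ := D.tr (e g) hg
    refine ⟨e.symm u, ?_, e.symm b, ?_, ?_⟩
    · show e (e.symm u) ∈ D.U
      rw [e.apply_symm_apply]; exact hu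
    · show e (e.symm b) ∈ D.B
      rw [e.apply_symm_apply]; exact hb
    · apply e.injective
      rw [map_mul, map_mul, e.apply_symm_apply, e.apply_symm_apply, e.apply_symm_apply]
      exact h
  ti := by
    have h1 : cj (e.symm D.w) (D.B.comap e.toMonoidHom) = (cj D.w D.B).comap e.toMonoidHom := by
      rw [comap_cj, e.apply_symm_apply]
    rw [h1, ← Subgroup.comap_inf, D.ti]
    rw [Subgroup.eq_bot_iff_forall]
    intro x hx
    have h2 : e x = 1 := hx
    exact (map_eq_one_iff _ e.injective).1 h2

theorem ofEquiv_T0 (e : T ≃* S) (D : R1 p S) : (D.ofEquiv e).T0 = D.T0.comap e.toMonoidHom := by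
  show D.B.comap e.toMonoidHom ⊓ cj (e.symm D.w) (D.B.comap e.toMonoidHom) = _
  rw [comap_cj, e.apply_symm_apply, ← Subgroup.comap_inf]
  rfl

/-- **transport of the hypotheses** -/
theorem Hyp.ofEquiv (e : T ≃* S) {D : R1 p S} (hD : D.Hyp) : (D.ofEquiv e).Hyp where
  comm X hX h := by
    have hX' : X ≤ D.U.comap e.toMonoidHom := hX
    have h1 : X.map e.toMonoidHom = D.U := by
      apply hD.comm
      · have := Subgroup.map_mono (f := e.toMonoidHom) hX'
        rwa [map_comap] at this
      · intro u hu t ht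
        have h2 := h (e.symm u) (by
          show e (e.symm u) ∈ D.U
          rw [e.apply_symm_apply]; exact hu) (e.symm t) (by
          rw [ofEquiv_T0]
          show e (e.symm t) ∈ D.T0
          rw [e.apply_symm_apply]; exact ht)
        refine ⟨_, h2, ?_⟩
        show e (e.symm u * e.symm t * (e.symm u)⁻¹ * (e.symm t)⁻¹) = _
        rw [map_mul, map_mul, map_mul, map_inv, map_inv, e.apply_symm_apply, e.apply_symm_apply]
    show X = D.U.comap e.toMonoidHom
    rw [← h1, comap_map]
  p2 hp φ hφ m hm := by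
    let f : (D.ofEquiv e).U ≃* D.U :=
      { toFun := fun u => ⟨e u, u.2⟩
        invFun := fun s => ⟨e.symm s, by
          show e (e.symm s) ∈ D.U
          rw [e.apply_symm_apply]; exact s.2⟩
        left_inv := fun u => Subtype.ext (e.symm_apply_apply _)
        right_inv := fun s => Subtype.ext (e.apply_symm_apply _)
        map_mul' := fun a b => Subtype.ext (map_mul e _ _) }
    have hf : ∀ u, ((f u : D.U) : S) = e u := fun _ => rfl
    let ψ : MulAut D.U := MulAut.congr f φ
    have hψ : ∀ s, ψ s = f (φ (f.symm s)) := fun _ => rfl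
    have h1 : ψ = 1 := by
      refine hD.p2 hp ψ (fun t ht u v huv => ?_) m (by
        show (MulAut.congr f φ) ^ 2 ^ m = 1
        rw [← map_pow, hm, map_one])
      have h2 := hφ (e.symm t) (by
          rw [ofEquiv_T0]
          show e (e.symm t) ∈ D.T0
          rw [e.apply_symm_apply]; exact ht) (f.symm u) (f.symm v) (by
          show e.symm (v : S) = e.symm t * e.symm (u : S) * (e.symm t)⁻¹
          rw [huv, map_mul, map_mul, map_inv])
      rw [hψ, hψ, hf, hf, h2, map_mul, map_mul, map_inv, e.apply_symm_apply]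
    have h2 : MulAut.congr f φ = MulAut.congr f 1 := by rw [map_one]; exact h1
    exact (MulAut.congr f).injective h2
  inv hp φ hφ b hb := by
    let ψ : MulAut S := MulAut.congr e φ
    have hψ : ∀ s, ψ s = e (φ (e.symm s)) := fun _ => rfl
    have h1 := hD.inv hp ψ (fun t ht => by
      rw [hψ, hφ (e.symm t) (by
        rw [ofEquiv_T0]
        show e (e.symm t) ∈ D.T0
        rw [e.apply_symm_apply]; exact ht), e.apply_symm_apply]) (e b) hb
    rw [hψ, e.symm_apply_apply] at h1
    exact h1
  ov := by
    classical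
    obtain ⟨Zs, h1, h2, h3⟩ := hD.ov
    refine ⟨Zs.image (fun Z => Z.comap e.toMonoidHom), ?_, ?_, ?_⟩
    · have h4 := Finset.card_image_le (s := Zs) (f := fun Z : Subgroup S => Z.comap e.toMonoidHom)
      rcases h1 with h1 | h1
      · exact Or.inl (h4.trans h1)
      · exact Or.inr (by omega)
    · intro Z hZ
      obtain ⟨Z', hZ', rfl⟩ := Finset.mem_image.1 hZ
      obtain ⟨h5, h6⟩ := h2 Z' hZ'
      constructor
      · intro h7
        apply h5
        rw [Subgroup.eq_bot_iff_forall]
        intro s hs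
        have h8 : e.symm s ∈ Z'.comap e.toMonoidHom := by
          show e (e.symm s) ∈ Z'
          rw [e.apply_symm_apply]; exact hs
        rw [h7, Subgroup.mem_bot] at h8
        rwa [map_eq_one_iff _ e.symm.injective] at h8
      · intro h7
        apply h6
        rw [eq_top_iff]
        intro s _
        have h8 : e.symm s ∈ Z'.comap e.toMonoidHom := by rw [h7]; trivial
        have h9 : e (e.symm s) ∈ Z' := h8
        rwa [e.apply_symm_apply] at h9
    · intro K hK hK1
      have h4 : D.T0 ≤ K.map e.toMonoidHom := by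
        rw [ofEquiv_T0] at hK
        have := Subgroup.map_mono (f := e.toMonoidHom) hK
        rwa [map_comap] at this
      have h5 : K.map e.toMonoidHom ≠ ⊤ := by
        intro h6
        apply hK1
        rw [← comap_map e K, h6]
        rfl
      have hle : ∀ L : Subgroup S, K.map e.toMonoidHom ≤ L → K ≤ L.comap e.toMonoidHom := fun L hL =>
        Subgroup.map_le_iff_le_comap.1 hL
      have hcw : ∀ L : Subgroup S, cj (D.ofEquiv e).w (L.comap e.toMonoidHom) = (cj D.w L).comap e.toMonoidHom := by
        intro L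
        show cj (e.symm D.w) (L.comap e.toMonoidHom) = _
        rw [comap_cj, e.apply_symm_apply]
      have hinf : ∀ L : Subgroup S, K.map e.toMonoidHom ⊓ L ≠ ⊥ → K ⊓ L.comap e.toMonoidHom ≠ ⊥ := by
        intro L hL h6
        apply hL
        rw [Subgroup.eq_bot_iff_forall]
        rintro s ⟨⟨k, hk, rfl⟩, hs⟩
        have h7 : k ∈ K ⊓ L.comap e.toMonoidHom := ⟨hk, hs⟩
        rw [h6, Subgroup.mem_bot] at h7
        rw [h7, map_one]
      rcases h3 _ h4 h5 with ⟨h6, h7⟩ | ⟨h6, h7⟩ | ⟨Z, hZ, h6⟩
      · exact Or.inl ⟨hle _ h6, hinf _ h7⟩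
      · refine Or.inr (Or.inl ⟨?_, ?_⟩)
        · show K ≤ cj (D.ofEquiv e).w (D.B.comap e.toMonoidHom)
          rw [hcw]
          exact hle _ h6
        · show K ⊓ cj (D.ofEquiv e).w (D.U.comap e.toMonoidHom) ≠ ⊥
          rw [hcw]
          exact hinf _ h7
      · refine Or.inr (Or.inr ⟨Z.comap e.toMonoidHom, Finset.mem_image_of_mem _ hZ, fun φ hφ z hz => ?_⟩)
        let ψ : MulAut S := MulAut.congr e φ
        have hψ : ∀ s, ψ s = e (φ (e.symm s)) := fun _ => rfl
        have h7 := h6 ψ (by
          rintro _ ⟨k, hk, rfl⟩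
          refine ⟨φ k, hφ k hk, ?_⟩
          show e (φ k) = ψ (e k)
          rw [hψ, e.symm_apply_apply]) (e z) hz
        rw [hψ, e.symm_apply_apply] at h7
        exact h7

theorem exists_ofEquiv (e : T ≃* S) (h : ∃ D : R1 p S, D.Hyp) : ∃ D : R1 p T, D.Hyp := by
  obtain ⟨D, hD⟩ := h
  exact ⟨D.ofEquiv e, hD.ofEquiv e⟩

end R1

end Cfsg.Agent.H470.EPO
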