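import Cfsg.Agent.H470.EPO.OwnT
import Cfsg.Agent.H737.EPO.RelOne
import Cfsg.Agent.H284.EPO.Pan
import Cfsg.Agent.H50.HerPan
import Cfsg.Agent.H419.EP.Soc

/-!
# Own characteristic: the final forms (helper470, with helper737, helper284)

`L` a simple group with a root group datum of rank at least two, all simple root groups of order at least three:

* `own_S_filtC`, `own_S_pan` : `EPS`-form (for S5745), `N ≅ L ^ k`;
* `own_filtC`, `own_pan` : `T`-form, `EPT A Γ`, `HasSoc A L`, `HasFilt p Q`.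

No hypothesis on the relative rank.
-/

set_option autoImplicit false
set_option linter.unusedSectionVars false

namespace Cfsg.Agent.H470.EPO

open CoxeterSystem Cfsg.Agent.ChevalleyStructure.CoxeterGeom Cfsg.Agent.Tits.Roots Cfsg.Agent.Tits.Core
  Cfsg.Agent.Tits.RootComb Cfsg.Agent.Tits.Exchange Cfsg.Agent.Nodes.Reps Cfsg.Agent.Nodes.BNOf
  Cfsg.Agent.Nodes.StabComb Cfsg.Agent.Nodes.Bruhat Cfsg.Agent.Nodes.OppDec Cfsg.Agent.Nodes.LeviDec
  Cfsg.Agent.Nodes.Coroot Cfsg.Agent.KFacts.RgdPar Cfsg.Agent.KFacts.RgdSL Cfsg.Agent.KFacts.RgdVJ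
  Cfsg.Agent.KFacts.RgdCharP Cfsg.Agent.H470.EPK Cfsg.Agent.H737.EPO Cfsg.Agent.H209.EPX
  Cfsg.Agent.KFacts.RgdFilt Cfsg.Agent.H284.EPT Cfsg.Agent.H50.Her Cfsg.Agent.H419.EP Cfsg.Agent.H284.Pan

theorem exists_socN {Q : Type*} [Group Q] {A : Subgroup Q} {L : Type*} [Group L] [IsSimpleGroup L]
    (hL : ∃ a b : L, a * b ≠ b * a) (h : HasSoc A L) : ∃ N : Subgroup Q, SocN A N ∧ Nonempty (N ≃* L) := by
  obtain ⟨N, h1, h2, h3, ⟨e⟩⟩ := h
  refine ⟨N, ⟨h1, h2, h3, e.isSimpleGroup, ?_⟩, ⟨e⟩⟩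
  obtain ⟨a, b, hab⟩ := hL
  refine ⟨e.symm a, (e.symm a).2, e.symm b, (e.symm b).2, fun h4 => hab ?_⟩
  have h5 : e.symm a * e.symm b = e.symm b * e.symm a := Subtype.ext h4
  rw [← map_mul, ← map_mul] at h5
  exact e.symm.injective h5

section Main

variable {I W : Type*} [Fintype I] [DecidableEq I] [Group W] [Finite W] {M : CoxeterMatrix I}
  {cs : CoxeterSystem M W} {A : I → I → ℤ} {hC : IsCartan M A}

/-- **Own characteristic, rank at least two, `EPS`-form.** -/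
theorem own_SR [Nontrivial I] {G : Type*} [Group G] [Finite G] {H N : Subgroup G} {T : Type} [Group T] [Finite T]
    {k : ℕ} {e : N ≃* (Fin k → T)} (h : EPS H N e) {p : ℕ} [Fact p.Prime]
    {Y : Type*} [Group Y] [Finite Y] [IsSimpleGroup Y] (hY : HasFilt p Y) (hYn : ∃ a b : Y, a * b ≠ b * a)
    {j : Y →* G} (hj : Function.Injective j) (hn : j.range.Normal) (hNj : N ≤ j.range)
    {Tt : Subgroup T} {n : I → T} {X : (I → ℤ) → Subgroup T} (R : RGD cs hC p Tt n X) (hBT : BT cs hC p Tt X)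
    (hG : GG cs hC Tt X = ⊤) (hX : RGD.Sup X {x | IsRoot cs hC x} = ⊤) (hconn : Conn M) :
    p = 2 ∧ ∃ i, Nat.card (X (sr i)) = 2 := by
  have := h.simple
  obtain ⟨P, -, hP⟩ := exists_sylIn (p := p) (H := H) (K := ⊥) bot_le IsPGroup.of_bot
  obtain ⟨e', hPN⟩ := exists_std (ofRGD R hBT hG hX hconn) e h.nrm h.le hP
  obtain ⟨h1, i, h2⟩ := own_R e' h.nab (rk_ofRGD R hBT hG hX hconn) h.ep h.toMinN h.pos hP hPN
    (fun J hJ => dq_of h hY hYn hj hn hNj _ e' J hJ)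
  exact ⟨h1, i, by rwa [relIndex_ofRGD] at h2⟩

/-- **Own characteristic, rank at least two, `T`-form.** -/
theorem own_TR [Nontrivial I] {Q : Type*} [Group Q] [Finite Q] [IsSimpleGroup Q] {p : ℕ} [Fact p.Prime]
    (hQ : HasFilt p Q) {A₀ : Subgroup Q} {Γ : Subgroup (MulAut Q)} (h : H284.EPT A₀ Γ) {L : Type} [Group L]
    [Finite L] [IsSimpleGroup L] (hL : ∃ a b : L, a * b ≠ b * a) (hs : HasSoc A₀ L)
    {Tt : Subgroup L} {n : I → L} {X : (I → ℤ) → Subgroup L} (R : RGD cs hC p Tt n X) (hBT : BT cs hC p Tt X)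
    (hG : GG cs hC Tt X = ⊤) (hX : RGD.Sup X {x | IsRoot cs hC x} = ⊤) (hconn : Conn M) :
    p = 2 ∧ ∃ i, Nat.card (X (sr i)) = 2 := by
  obtain ⟨N, hN, ⟨e⟩⟩ := exists_socN hL hs
  have hfin : Finite (H284.EPT.GG Γ) := finite_GG h
  have hE := eps_of_ept h hN (L := L) inferInstance hL e
  have hn : (jj Γ).range.Normal := by
    refine ⟨?_⟩
    rintro _ ⟨q, rfl⟩ g
    exact ⟨_, (jj_conj Γ g q).symm⟩
  have hNj : N.map (jj Γ) ≤ (jj Γ).range := by
    rintro _ ⟨x, _, rfl⟩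
    exact ⟨x, rfl⟩
  obtain ⟨a, ha, b, hb, hab⟩ := hN.nab
  exact own_SR hE hQ ⟨a, b, hab⟩ (jj_inj h) hn hNj R hBT hG hX hconn

end Main

section Fin

variable {p : ℕ} [Fact p.Prime] {l : ℕ} {M : CoxeterMatrix (Fin l)}

/-- **`EPS`-form** (S5745), with a filtered root group datum of the socle. -/
theorem own_S_filtC (hl : 2 ≤ l) {G : Type*} [Group G] [Finite G] {H N : Subgroup G} {T : Type} [Group T] [Finite T]
    {k : ℕ} {e : N ≃* (Fin k → T)} (h : EPS H N e)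
    {Y : Type*} [Group Y] [Finite Y] [IsSimpleGroup Y] (hY : HasFilt p Y) (hYn : ∃ a b : Y, a * b ≠ b * a)
    {j : Y →* G} (hj : Function.Injective j) (hn : j.range.Normal) (hNj : N ≤ j.range)
    (hF : FiltC p 3 M T) : False := by
  have := h.simple
  obtain ⟨A, hC, Tt, n, X, R, F, hW, hX, hF, hc⟩ := hF
  have : Nontrivial (Fin l) := Fin.nontrivial_iff_two_le.2 hl
  have hG := GG_eq_top (T := Tt) hX
  obtain ⟨-, i, h2⟩ := own_SR h hY hYn hj hn hNj R (fun K hK h1 => borel_tits_of_filt hF hX hK h1) hG hX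
    (KFacts.RgdLieCharP.conn_of_simple R hX (KFacts.RgdLieCharP.center_eq_bot h.nab))
  have := hc i
  omega

/-- the same with `HasPan` and `HasFilt` -/
theorem own_S_pan (hl : 2 ≤ l) {q : Fin l → ℕ} {G : Type*} [Group G] [Finite G] {H N : Subgroup G} {T : Type}
    [Group T] [Finite T] {k : ℕ} {e : N ≃* (Fin k → T)} (h : EPS H N e)
    {Y : Type*} [Group Y] [Finite Y] [IsSimpleGroup Y] (hY : HasFilt p Y) (hYn : ∃ a b : Y, a * b ≠ b * a)
    {j : Y →* G} (hj : Function.Injective j) (hn : j.range.Normal) (hNj : N ≤ j.range)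
    (hP : HasPan p M q T) (hF : HasFilt p T) : p = 2 ∧ ∃ i, q i = 2 := by
  have := h.simple
  obtain ⟨A, hC, Tt, n, X, hW, R, hX, -, -, hq⟩ := hP
  have : Nontrivial (Fin l) := Fin.nontrivial_iff_two_le.2 hl
  have hG := GG_eq_top (T := Tt) hX
  obtain ⟨h1, i, h2⟩ := own_SR h hY hYn hj hn hNj R (bt_of_hasFilt R hG hF) hG hX
    (KFacts.RgdLieCharP.conn_of_simple R hX (KFacts.RgdLieCharP.center_eq_bot h.nab))
  exact ⟨h1, i, by rw [← hq i, h2]⟩

/-- **`T`-form**, with a filtered root group datum of the socle. -/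
theorem own_filtC (hl : 2 ≤ l) {Q : Type*} [Group Q] [Finite Q] [IsSimpleGroup Q] (hQ : HasFilt p Q)
    {A₀ : Subgroup Q} {Γ : Subgroup (MulAut Q)} (h : H284.EPT A₀ Γ) {L : Type} [Group L]
    [Finite L] [IsSimpleGroup L] (hL : ∃ a b : L, a * b ≠ b * a) (hs : HasSoc A₀ L) (hF : FiltC p 3 M L) : False := by
  obtain ⟨A, hC, Tt, n, X, R, F, hW, hX, hF, hc⟩ := hF
  have : Nontrivial (Fin l) := Fin.nontrivial_iff_two_le.2 hl
  have hG := GG_eq_top (T := Tt) hX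
  obtain ⟨-, i, h2⟩ := own_TR hQ h hL hs R (fun K hK h1 => borel_tits_of_filt hF hX hK h1) hG hX
    (KFacts.RgdLieCharP.conn_of_simple R hX (KFacts.RgdLieCharP.center_eq_bot hL))
  have := hc i
  omega

/-- the same with `HasPan` and `HasFilt`: `p = 2` and a simple root group has order two -/
theorem own_pan (hl : 2 ≤ l) {q : Fin l → ℕ} {Q : Type*} [Group Q] [Finite Q] [IsSimpleGroup Q] (hQ : HasFilt p Q)
    {A₀ : Subgroup Q} {Γ : Subgroup (MulAut Q)} (h : H284.EPT A₀ Γ) {L : Type} [Group L]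
    [Finite L] [IsSimpleGroup L] (hL : ∃ a b : L, a * b ≠ b * a) (hs : HasSoc A₀ L) (hP : HasPan p M q L)
    (hF : HasFilt p L) : p = 2 ∧ ∃ i, q i = 2 := by
  obtain ⟨A, hC, Tt, n, X, hW, R, hX, -, -, hq⟩ := hP
  have : Nontrivial (Fin l) := Fin.nontrivial_iff_two_le.2 hl
  have hG := GG_eq_top (T := Tt) hX
  obtain ⟨h1, i, h2⟩ := own_TR hQ h hL hs R (bt_of_hasFilt R hG hF) hG hX
    (KFacts.RgdLieCharP.conn_of_simple R hX (KFacts.RgdLieCharP.center_eq_bot hL))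
  exact ⟨h1, i, by rw [← hq i, h2]⟩

end Fin

end Cfsg.Agent.H470.EPO
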