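import Cfsg.Agent.H470.EPO.GSide
import Cfsg.Agent.H737.EPO.HSide

/-!
# The `p`-group `QQ` above the radical `V_J` of the socle (helper470, S3499 layer VII)
-/

set_option autoImplicit false
set_option linter.unusedSectionVars false

namespace Cfsg.Agent.H470.EPO

open CoxeterSystem Cfsg.Agent.ChevalleyStructure.CoxeterGeom Cfsg.Agent.Tits.Roots Cfsg.Agent.Tits.Core
  Cfsg.Agent.Tits.RootComb Cfsg.Agent.Tits.Exchange Cfsg.Agent.Nodes.Reps Cfsg.Agent.Nodes.BNOf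
  Cfsg.Agent.Nodes.StabComb Cfsg.Agent.Nodes.Bruhat Cfsg.Agent.Nodes.OppDec Cfsg.Agent.Nodes.LeviDec
  Cfsg.Agent.Nodes.Coroot Cfsg.Agent.KFacts.RgdPar Cfsg.Agent.KFacts.RgdSL Cfsg.Agent.KFacts.RgdVJ
  Cfsg.Agent.KFacts.RgdCharP Cfsg.Agent.H470.EPK Cfsg.Agent.H737.EPO

variable {I W Y : Type*} [Fintype I] [DecidableEq I] [Group W] [Group Y] {M : CoxeterMatrix I}
  {cs : CoxeterSystem M W} {A : I → I → ℤ} {h : IsCartan M A} {p : ℕ} {T : Subgroup Y} {n : I → Y}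
  {X : (I → ℤ) → Subgroup Y}

variable (R : RGD cs h p T n X)

include R

theorem exists_QQ_VV [Finite W] [Finite Y] [Fact p.Prime] (hBT : BT cs h p T X) (hG : GG cs h T X = ⊤)
    (hX : RGD.Sup X {x | IsRoot cs h x} = ⊤) (hconn : Conn M) {G : Type*} [Group G] [Finite G] {j : Y →* G}
    (hj : Function.Injective j) (hn : j.range.Normal) {H : Subgroup G} (hmax : IsCoatom H)
    (hcore : ¬ j.range ≤ H) (hOp : ∀ K ≤ H, (∀ g ∈ H, ∀ k ∈ K, g * k * g⁻¹ ∈ K) → IsPGroup p K → K = ⊥)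
    {N : Subgroup G} {Z I' : Type*} [Group Z] [Finite Z] {k : ℕ} (e : N ≃* (Fin k → Z)) (S : PSys Z p I') (hNH : N ≤ H)
    (hNj : N ≤ j.range) (hpN : ∀ D : Subgroup G, IsPGroup p D → D ≤ H → D ≤ j.range → D ≤ N)
    (J : Fin k → Set I') (hV : VV e S J ≠ ⊥) :
    ∃ Q : Subgroup G, IsPGroup p Q ∧ (∀ g ∈ PH H e S J, ∀ w ∈ Q, g * w * g⁻¹ ∈ Q) ∧ VV e S J ≤ Q ∧
      Q ⊓ H = VV e S J ∧ Q ≠ VV e S J := by
  have hPP : PP e S J ≤ PH H e S J := PP_le_PH e S hNH J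
  obtain ⟨Q, h1, -, h2, h3, h4, h5⟩ := exists_QQ R hBT hG hX hconn hj hn hmax hcore hOp (D := VV e S J)
    (P := PH H e S J) ((VV_le e S J).trans hNj) (VV_isPGroup e S J) hV ((VV_le e S J).trans hNH) inf_le_left
    (fun g hg d hd => PH_nm_VV e S hg hd) (fun D hD hDH hDj hDn => by
      have hDN : D ≤ N := hpN D hD hDH hDj
      have hUD : VV e S (fun _ => ∅) ≤ Subgroup.normalizer (D : Set G) := by
        intro u hu
        have huP : u ∈ PH H e S J := hPP (VV_le_PP' e S _ J hu)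
        rw [mem_normalizer_iff_cj]
        apply Subgroup.eq_of_le_of_card_ge
        · rintro _ ⟨d, hd, rfl⟩
          exact hDn u huP d hd
        · exact (H284.card_cj u D).ge
      have h6 : IsPGroup p (VV e S (fun _ => ∅) ⊔ D : Subgroup G) :=
        (VV_isPGroup e S _).to_sup_of_normal_right' hD hUD
      have h7 := UU_max e S (sup_le (VV_le e S _) hDN) h6 le_sup_left
      have h8 : D ≤ VV e S (fun _ => ∅) := by rw [← h7]; exact le_sup_right
      exact VV_max e S (h8.trans (VV_le_PP' e S _ J)) hD fun g hg d hd => hDn g (hPP hg) d hd)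
  exact ⟨Q, h1, h2, h3, h4, h5⟩

/-- the same without `p ∤ |H ∩ Y : N|`: `D = O_p(P ∩ Y)`, `P = PH H e S J` -/
theorem exists_DQ [Finite W] [Finite Y] [Fact p.Prime] (hBT : BT cs h p T X) (hG : GG cs h T X = ⊤)
    (hX : RGD.Sup X {x | IsRoot cs h x} = ⊤) (hconn : Conn M) {G : Type*} [Group G] [Finite G] {j : Y →* G}
    (hj : Function.Injective j) (hn : j.range.Normal) {H : Subgroup G} (hmax : IsCoatom H)
    (hcore : ¬ j.range ≤ H) (hOp : ∀ K ≤ H, (∀ g ∈ H, ∀ k ∈ K, g * k * g⁻¹ ∈ K) → IsPGroup p K → K = ⊥)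
    {N : Subgroup G} {Z I' : Type*} [Group Z] [Finite Z] {k : ℕ} (e : N ≃* (Fin k → Z)) (S : PSys Z p I')
    (hNH : N ≤ H) (hNn : ∀ g ∈ H, ∀ n ∈ N, g * n * g⁻¹ ∈ N) (hNj : N ≤ j.range)
    (J : Fin k → Set I') (hV : VV e S J ≠ ⊥) :
    ∃ D Q : Subgroup G, VV e S J ≤ D ∧ D ≤ PH H e S J ∧ D ≤ j.range ∧ IsPGroup p D ∧
      (∀ g ∈ PH H e S J, ∀ d ∈ D, g * d * g⁻¹ ∈ D) ∧ IsPGroup p Q ∧
      (∀ g ∈ PH H e S J, ∀ w ∈ Q, g * w * g⁻¹ ∈ Q) ∧ D ≤ Q ∧ Q ⊓ H = D ∧ Q ≠ D := by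
  classical
  have hPP : PP e S J ≤ PH H e S J := PP_le_PH e S hNH J
  set P := PH H e S J with hP
  set P₁ : Subgroup G := P ⊓ j.range with hP₁
  have hP₁n : ∀ g ∈ P, ∀ x ∈ P₁, g * x * g⁻¹ ∈ P₁ := fun g hg x hx =>
    ⟨P.mul_mem (P.mul_mem hg hx.1) (P.inv_mem hg), hn.conj_mem x hx.2 g⟩
  set D : Subgroup G := (pCore p ↥P₁).map P₁.subtype with hD
  have hDP₁ : D ≤ P₁ := by
    rintro _ ⟨y, _, rfl⟩
    exact y.2
  have hDp : IsPGroup p D := (Lib.Cores.pCore_isPGroup (G := P₁) p).map _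
  have hDn : ∀ g ∈ P, ∀ d ∈ D, g * d * g⁻¹ ∈ D := fun g hg d hd =>
    H459.RgdRad.iv_core (x := MulAut.conj g) (N := P₁) (fun x hx => hP₁n g hg x hx) d hd
  have hVD : VV e S J ≤ D := by
    refine le_core (N := P₁) (le_inf ((VV_le_PP e S J).trans hPP) ((VV_le e S J).trans hNj))
      (fun g hg a ha => PH_nm_VV e S hg.1 ha) (VV_isPGroup e S J)
  have hD1 : D ≠ ⊥ := fun h1 => hV (le_bot_iff.1 (h1 ▸ hVD))
  obtain ⟨Q, h1, -, h2, h3, h4, h5⟩ := exists_QQ R hBT hG hX hconn hj hn hmax hcore hOp (D := D)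
    (P := P) (hDP₁.trans inf_le_right) hDp hD1 (hDP₁.trans (inf_le_left.trans inf_le_left)) inf_le_left
    hDn (fun E hE hEH hEj hEn => by
      -- `E ∩ N ≤ V_J`
      have hEN : E ⊓ N ≤ VV e S J := by
        have hEn' : ∀ g ∈ P, ∀ d ∈ E ⊓ N, g * d * g⁻¹ ∈ E ⊓ N := fun g hg d hd =>
          ⟨hEn g hg d hd.1, hNn g (inf_le_left (a := H) hg) d hd.2⟩
        have hUD : VV e S (fun _ => ∅) ≤ Subgroup.normalizer ((E ⊓ N : Subgroup G) : Set G) := by
          intro u hu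
          have huP : u ∈ P := hPP (VV_le_PP' e S _ J hu)
          rw [mem_normalizer_iff_cj]
          apply Subgroup.eq_of_le_of_card_ge
          · rintro _ ⟨d, hd, rfl⟩
            exact hEn' u huP d hd
          · exact (H284.card_cj u (E ⊓ N)).ge
        have h6 : IsPGroup p (VV e S (fun _ => ∅) ⊔ (E ⊓ N) : Subgroup G) :=
          (VV_isPGroup e S _).to_sup_of_normal_right' (hE.to_le inf_le_left) hUD
        have h7 := UU_max e S (sup_le (VV_le e S _) inf_le_right) h6 le_sup_left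
        have h8 : E ⊓ N ≤ VV e S (fun _ => ∅) := by rw [← h7]; exact le_sup_right
        exact VV_max e S (h8.trans (VV_le_PP' e S _ J)) (hE.to_le inf_le_left) fun g hg d hd => hEn' g (hPP hg) d hd
      -- `E ≤ P`
      have hEP : E ≤ P := by
        intro s hs
        have hsH := hEH hs
        refine (mem_PH e S).2 ⟨hsH, ?_⟩
        apply Subgroup.eq_of_le_of_card_ge
        · rintro _ ⟨u, hu, rfl⟩
          have hu' := hPP hu
          have huN := PP_le e S J hu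
          have h6 : s * (u * s⁻¹ * u⁻¹) ∈ E ⊓ N := by
            refine ⟨E.mul_mem hs (hEn u hu' _ (E.inv_mem hs)), ?_⟩
            have e1 : s * (u * s⁻¹ * u⁻¹) = s * u * s⁻¹ * u⁻¹ := by group
            rw [e1]
            exact N.mul_mem (hNn s hsH u huN) (N.inv_mem huN)
          have h7 := (PP e S J).mul_mem (VV_le_PP e S J (hEN h6)) hu
          have e2 : s * (u * s⁻¹ * u⁻¹) * u = s * u * s⁻¹ := by group
          rw [e2] at h7
          exact h7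
        · exact (H284.card_cj s _).ge
      exact le_core (N := P₁) (le_inf hEP hEj) (fun g hg a ha => hEn g hg.1 a ha) hE)
  exact ⟨D, Q, hVD, hDP₁.trans inf_le_left, hDP₁.trans inf_le_right, hDp, hDn, h1, h2, h3, h4, h5⟩

end Cfsg.Agent.H470.EPO
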