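import Cfsg.Agent.H470.EPO.OfEPT
import Cfsg.Agent.H470.EPO.QQ
import Cfsg.Agent.H470.EPO.BTAny
import Cfsg.Agent.H737.EPO.OwnB

/-!
# Own characteristic, relative rank at least two, `EPS`-form and `T`-form (helper470)

* `dq_of` : the `G`-side for `EPS`;
* `own_S` : `EPS H N e`, `N ≅ T ^ k`, `T` with a root group datum and the relative rank at least two;
* `own_T` : `EPT A Γ`, `SocN A N`, `N ≅ L`.
-/

set_option autoImplicit false
set_option linter.unusedSectionVars false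

namespace Cfsg.Agent.H470.EPO

open CoxeterSystem Cfsg.Agent.ChevalleyStructure.CoxeterGeom Cfsg.Agent.Tits.Roots Cfsg.Agent.Tits.Core
  Cfsg.Agent.Tits.RootComb Cfsg.Agent.Tits.Exchange Cfsg.Agent.Nodes.Reps Cfsg.Agent.Nodes.BNOf
  Cfsg.Agent.Nodes.StabComb Cfsg.Agent.Nodes.Bruhat Cfsg.Agent.Nodes.OppDec Cfsg.Agent.Nodes.LeviDec
  Cfsg.Agent.Nodes.Coroot Cfsg.Agent.KFacts.RgdPar Cfsg.Agent.KFacts.RgdSL Cfsg.Agent.KFacts.RgdVJ
  Cfsg.Agent.KFacts.RgdCharP Cfsg.Agent.H470.EPK Cfsg.Agent.H737.EPO Cfsg.Agent.H209.EPX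
  Cfsg.Agent.KFacts.RgdFilt Cfsg.Agent.H284.EPT

/-- the rank hypothesis: an invariant type different from `∅` and `I` -/
def Rk2 {G Y : Type*} [Group G] [Group Y] (H : Subgroup G) (N : Subgroup G) (k : ℕ) {p : ℕ} {I : Type*}
    (S : PSys Y p I) : Prop :=
  ∀ e : N ≃* (Fin k → Y), ∃ J : Fin k → Set I, H737.EPO.Inv H e S J ∧ (∃ i, J i ≠ ∅) ∧ ∃ i, J i ≠ Set.univ

/-- a nonabelian simple group is not a `p`-group -/
theorem not_isPGroup {T : Type*} [Group T] [Finite T] [IsSimpleGroup T] {p : ℕ} [Fact p.Prime]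
    (hT : ∃ a b : T, a * b ≠ b * a) : ¬ IsPGroup p T := by
  intro h1
  have h2 := h1.center_nontrivial
  rw [KFacts.RgdLieCharP.center_eq_bot hT] at h2
  exact not_nontrivial _ h2

section EPS

variable {G : Type*} [Group G] [Finite G] {H N : Subgroup G} {T : Type} [Group T] [Finite T] {k : ℕ}
  {e : N ≃* (Fin k → T)} (h : EPS H N e) {p : ℕ} [Fact p.Prime]

include h

theorem eps_Op {K : Subgroup G} (hK : K ≤ H) (hn : ∀ g ∈ H, ∀ k ∈ K, g * k * g⁻¹ ∈ K) (hp : IsPGroup p K) :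
    K = ⊥ := by
  by_contra hK1
  have := h.simple
  have h1 := h.least K ⟨hK, hn⟩ hK1
  have h2 : IsPGroup p (Fin k → T) := (hp.to_le h1).of_equiv e
  have h3 : IsPGroup p T := h2.of_injective (MonoidHom.mulSingle (fun _ => T) ⟨0, h.pos⟩)
    (Pi.mulSingle_injective (M := fun _ : Fin k => T) _)
  exact not_isPGroup h.nab h3

theorem eps_core {L : Subgroup G} (hL : L.Normal) (hNL : N ≤ L) : ¬ L ≤ H := by
  intro h1
  have h2 : L ≤ H.normalCore := Subgroup.normal_le_normalCore.2 h1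
  rw [h.ep.core] at h2
  exact h.ne (le_bot_iff.1 (hNL.trans h2))

/-- **the `G`-side** -/
theorem dq_of {Y : Type*} [Group Y] [Finite Y] [IsSimpleGroup Y] (hY : HasFilt p Y) (hYn : ∃ a b : Y, a * b ≠ b * a)
    {j : Y →* G} (hj : Function.Injective j) (hn : j.range.Normal) (hNj : N ≤ j.range) {I : Type*} (S : PSys T p I)
    (e' : N ≃* (Fin k → T)) (J : Fin k → Set I) (hJ : VV e' S J ≠ ⊥) : DQ H e' S J := by
  obtain ⟨l, M, A, hC, Tt, n, X, R, hW, hBT, hGG, hN, hconn, hX, hl⟩ := hY.data hYn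
  obtain ⟨D, Q, h1, h2, h3, h4, h5, h6, h7, h8, h9, h10⟩ := exists_DQ R hBT hGG hX hconn hj hn h.ep.max
    (eps_core h hn hNj) (fun K hK hKn hKp => eps_Op h hK hKn hKp) e' S h.le h.nrm hNj J hJ
  exact ⟨D, Q, h1, h2, h4, h5, h6, h7, h8, h9, h10⟩

end EPS

section Main

variable {I W : Type*} [Fintype I] [DecidableEq I] [Group W] [Finite W] {M : CoxeterMatrix I}
  {cs : CoxeterSystem M W} {A : I → I → ℤ} {hC : IsCartan M A}

/-- **Own characteristic, `EPS`-form.** -/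
theorem own_S {G : Type*} [Group G] [Finite G] {H N : Subgroup G} {T : Type} [Group T] [Finite T] {k : ℕ}
    {e : N ≃* (Fin k → T)} (h : EPS H N e) {p : ℕ} [Fact p.Prime]
    {Y : Type*} [Group Y] [Finite Y] [IsSimpleGroup Y] (hY : HasFilt p Y) (hYn : ∃ a b : Y, a * b ≠ b * a)
    {j : Y →* G} (hj : Function.Injective j) (hn : j.range.Normal) (hNj : N ≤ j.range)
    {Tt : Subgroup T} {n : I → T} {X : (I → ℤ) → Subgroup T} (R : RGD cs hC p Tt n X) (hBT : BT cs hC p Tt X)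
    (hG : GG cs hC Tt X = ⊤) (hX : RGD.Sup X {x | IsRoot cs hC x} = ⊤) (hconn : Conn M)
    (hrk : Rk2 H N k (ofRGD R hBT hG hX hconn)) :
    p = 2 ∧ k = 1 ∧ ∃ (e' : N ≃* (Fin k → T)) (P : Subgroup G), SylIn H P p ∧
      P ⊓ N = VV e' (ofRGD R hBT hG hX hconn) (fun _ => ∅) ∧ (∃ M ∈ H284.EP.twoSet H, P ≤ M) ∧
      ∀ M ∈ H284.EP.twoSet H, P ≤ M → ∃ i : I, Nat.card (X (sr i)) = 2 ∧
        H737.EPO.Inv H e' (ofRGD R hBT hG hX hconn) (fun _ => {i}) ∧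
        M = PH H e' (ofRGD R hBT hG hX hconn) (fun _ => {i}ᶜ) := by
  have := h.simple
  have hne : Nonempty I := by
    obtain ⟨J, -, ⟨i, hi⟩, -⟩ := hrk e
    obtain ⟨x, -⟩ := Set.nonempty_iff_ne_empty.2 hi
    exact ⟨x⟩
  obtain ⟨P, -, hP⟩ := exists_sylIn (p := p) (H := H) (K := ⊥) bot_le IsPGroup.of_bot
  obtain ⟨e', hPN⟩ := exists_std (ofRGD R hBT hG hX hconn) e h.nrm h.le hP
  obtain ⟨J, hJ, ⟨i₀, h0⟩, ⟨i₁, h1⟩⟩ := hrk e'
  obtain ⟨hp, hk, hM, hall⟩ := own_B e' h.nab (rk_ofRGD R hBT hG hX hconn) h.ep h.toMinN hP hPN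
    (fun J hJ => dq_of h hY hYn hj hn hNj _ e' J hJ) hJ h0 h1
  refine ⟨hp, hk, e', P, hP, hPN, hM, fun M' hM' hPM => ?_⟩
  obtain ⟨i, h2, h3, h4⟩ := hall M' hM' hPM
  exact ⟨i, by rwa [relIndex_ofRGD] at h2, h3, h4⟩

/-- **Own characteristic, `T`-form.** -/
theorem own_T {Q : Type*} [Group Q] [Finite Q] [IsSimpleGroup Q] {p : ℕ} [Fact p.Prime] (hQ : HasFilt p Q)
    (hQn : ∃ a b : Q, a * b ≠ b * a) {A₀ N : Subgroup Q} {Γ : Subgroup (MulAut Q)} (h : H284.EPT A₀ Γ)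
    (hN : SocN A₀ N) {L : Type} [Group L] [Finite L] [IsSimpleGroup L] (hL : ∃ a b : L, a * b ≠ b * a) (e : N ≃* L)
    {Tt : Subgroup L} {n : I → L} {X : (I → ℤ) → Subgroup L} (R : RGD cs hC p Tt n X) (hBT : BT cs hC p Tt X)
    (hG : GG cs hC Tt X = ⊤) (hX : RGD.Sup X {x | IsRoot cs hC x} = ⊤) (hconn : Conn M)
    (hrk : Rk2 (HH Γ) (N.map (jj Γ)) 1 (ofRGD R hBT hG hX hconn)) :
    p = 2 ∧ ∃ (e' : N.map (jj Γ) ≃* (Fin 1 → L)) (P : Subgroup (GG Γ)), SylIn (HH Γ) P p ∧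
      P ⊓ N.map (jj Γ) = VV e' (ofRGD R hBT hG hX hconn) (fun _ => ∅) ∧
      (∃ M ∈ H284.EP.twoSet (HH Γ), P ≤ M) ∧
      ∀ M ∈ H284.EP.twoSet (HH Γ), P ≤ M → ∃ i : I, Nat.card (X (sr i)) = 2 ∧
        H737.EPO.Inv (HH Γ) e' (ofRGD R hBT hG hX hconn) (fun _ => {i}) ∧
        M = PH (HH Γ) e' (ofRGD R hBT hG hX hconn) (fun _ => {i}ᶜ) := by
  have hfin : Finite (H284.EPT.GG Γ) := finite_GG h
  have hE := eps_of_ept h hN (L := L) inferInstance hL e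
  have hn : (jj Γ).range.Normal := by
    refine ⟨?_⟩
    rintro _ ⟨q, rfl⟩ g
    exact ⟨_, (jj_conj Γ g q).symm⟩
  have hNj : N.map (jj Γ) ≤ (jj Γ).range := by
    rintro _ ⟨x, _, rfl⟩
    exact ⟨x, rfl⟩
  obtain ⟨h1, -, h2⟩ := own_S hE hQ hQn (jj_inj h) hn hNj R hBT hG hX hconn hrk
  exact ⟨h1, h2⟩

end Main

end Cfsg.Agent.H470.EPO
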