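import Cfsg.Agent.H284.EP.TCrit
import Cfsg.Agent.H209.EPX.Defs

/-!
# From the `T`-form to the frame `EPS` (helper470, S3499 layer VII)

`EPT A Γ`, `A` almost simple with socle `N ≅ L`: in `𝒢 = Γ Inn(Q)` the stabiliser `Γ` has the unique minimal normal
subgroup `N`.
-/

set_option autoImplicit false
set_option linter.unusedSectionVars false

namespace Cfsg.Agent.H470.EPO

open MulAction Subgroup Cfsg.Agent.H284 Cfsg.Agent.H284.EPT Cfsg.Agent.H209.EPX

/-- `N` is a nonabelian simple normal subgroup of `A` with `C_A(N) = 1` -/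
structure SocN {Q : Type*} [Group Q] (A N : Subgroup Q) : Prop where
  le : N ≤ A
  nrm : ∀ a ∈ A, ∀ n ∈ N, a * n * a⁻¹ ∈ N
  cent : ∀ a ∈ A, (∀ n ∈ N, a * n = n * a) → a = 1
  simple : IsSimpleGroup N
  nab : ∃ a ∈ N, ∃ b ∈ N, a * b ≠ b * a

namespace SocN

variable {Q : Type*} [Group Q] [Finite Q] {A N : Subgroup Q} (hN : SocN A N)

include hN

theorem ne_bot : N ≠ ⊥ := by
  rintro rfl
  obtain ⟨a, ha, b, hb, hab⟩ := hN.nab
  rw [mem_bot] at ha hb
  rw [ha, hb] at hab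
  exact hab rfl

/-- a normal subgroup of `N` is `1` or `N` -/
theorem min' {K : Subgroup Q} (hK : K ≤ N) (hn : ∀ a ∈ N, ∀ k ∈ K, a * k * a⁻¹ ∈ K) : K = ⊥ ∨ K = N := by
  have := hN.simple
  have h1 : (K.subgroupOf N).Normal := by
    constructor
    intro k hk g
    exact hn g g.2 _ hk
  rcases h1.eq_bot_or_eq_top with h2 | h2
  · left
    rw [subgroupOf_eq_bot, disjoint_iff, inf_eq_left.2 hK] at h2
    exact h2
  · right
    exact le_antisymm hK (subgroupOf_eq_top.1 h2)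

/-- `N` is invariant under automorphisms fixing `A` -/
theorem inv (σ : MulAut Q) (hσ : ∀ a, σ a ∈ A ↔ a ∈ A) : ∀ n ∈ N, σ n ∈ N := by
  classical
  set N' : Subgroup Q := N.map σ.toMonoidHom with hN'
  have hmem : ∀ x, x ∈ N' ↔ σ.symm x ∈ N := by
    intro x
    constructor
    · rintro ⟨y, hy, rfl⟩
      show σ.symm (σ y) ∈ N
      rw [MulEquiv.symm_apply_apply]; exact hy
    · intro hx
      exact ⟨_, hx, MulEquiv.apply_symm_apply σ x⟩
  have hA' : ∀ a, σ.symm a ∈ A ↔ a ∈ A := fun a => by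
    rw [← hσ (σ.symm a), MulEquiv.apply_symm_apply]
  have hN'n : ∀ a ∈ A, ∀ x ∈ N', a * x * a⁻¹ ∈ N' := by
    intro a ha x hx
    rw [hmem] at hx ⊢
    rw [map_mul, map_mul, map_inv]
    exact hN.nrm _ ((hA' a).2 ha) _ hx
  have hN'A : N' ≤ A := by
    rintro _ ⟨y, hy, rfl⟩
    exact (hσ y).2 (hN.le hy)
  have hcard : Nat.card N' = Nat.card N := by
    rw [hN']
    exact (Nat.card_congr (N.equivMapOfInjective σ.toMonoidHom σ.injective).toEquiv).symm
  rcases hN.min' (K := N' ⊓ N) inf_le_right (fun a ha k hk => ⟨hN'n a (hN.le ha) k hk.1,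
    N.mul_mem (N.mul_mem ha hk.2) (N.inv_mem ha)⟩) with h1 | h1
  · exfalso
    -- `N'` centralises `N`
    have h2 : ∀ x ∈ N', ∀ n ∈ N, x * n = n * x := by
      intro x hx n hn
      have h3 : x * n * x⁻¹ * n⁻¹ ∈ N' ⊓ N := by
        constructor
        · have e : x * n * x⁻¹ * n⁻¹ = x * (n * x⁻¹ * n⁻¹) := by group
          rw [e]
          exact N'.mul_mem hx (hN'n n (hN.le hn) _ (N'.inv_mem hx))
        · exact N.mul_mem (hN.nrm x (hN'A hx) n hn) (N.inv_mem hn)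
      rw [h1, mem_bot] at h3
      have h4 := mul_inv_eq_one.1 h3
      exact mul_inv_eq_iff_eq_mul.1 h4
    have h3 : N' = ⊥ := by
      rw [eq_bot_iff_forall]
      exact fun x hx => hN.cent x (hN'A hx) (h2 x hx)
    apply hN.ne_bot
    rw [← Subgroup.card_eq_one, ← hcard, h3, Subgroup.card_bot]
  · have h2 : N ≤ N' := by rw [← h1]; exact inf_le_left
    have h3 : N = N' := eq_of_le_of_card_ge h2 hcard.le
    intro n hn
    rw [h3]
    exact ⟨n, hn, rfl⟩

variable {Γ : Subgroup (MulAut Q)} (h : EPT A Γ)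

include h

theorem nin : NIn (N.map (jj Γ)) (HH Γ) := by
  refine ⟨?_, ?_⟩
  · rintro _ ⟨n, hn, rfl⟩
    exact (jj_mem h).2 (hN.le hn)
  · rintro g hg _ ⟨n, hn, rfl⟩
    rw [jj_conj]
    exact ⟨_, hN.inv _ (h.inv _ hg) n hn, rfl⟩

theorem cent_eq : Subgroup.centralizer (N.map (jj Γ) : Set (GG Γ)) = ⊥ := by
  have hEP := toEP h
  have hne : N.map (jj Γ) ≠ ⊥ := by
    intro h1
    rw [Subgroup.map_eq_bot_iff_of_injective _ (jj_inj h)] at h1
    exact hN.ne_bot h1
  have hfin := finite_GG h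
  rw [eq_bot_iff_forall]
  intro c hc
  rw [mem_centralizer_iff] at hc
  have hcH : c ∈ HH Γ := by
    refine hEP.norm_le (hN.nin h) hne (g := c) (fun k hk => ?_)
    rw [← hc k hk, mul_inv_cancel_right]
    exact hk
  have hcN : ∀ n ∈ N, (c : MulAut Q) n = n := by
    intro n hn
    apply jj_inj h
    rw [← jj_conj, ← hc _ ⟨n, hn, rfl⟩, mul_inv_cancel_right]
  apply Subtype.ext
  apply h.cent _ hcH
  intro a ha
  have hcA : (c : MulAut Q) a ∈ A := (h.inv _ hcH a).2 ha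
  have h1 : (c : MulAut Q) a * a⁻¹ = 1 := by
    apply hN.cent _ (mul_mem hcA (inv_mem ha))
    intro n hn
    have h2 : a⁻¹ * n * a ∈ N := by
      have := hN.nrm a⁻¹ (inv_mem ha) n hn
      rwa [inv_inv] at this
    have h3 := hcN _ h2
    rw [map_mul, map_mul, map_inv, hcN n hn] at h3
    -- `(c a)⁻¹ n (c a) = a⁻¹ n a`
    have h4 : (c : MulAut Q) a * (a⁻¹ * n * a) * a⁻¹ = (c : MulAut Q) a * (((c : MulAut Q) a)⁻¹ * n * (c : MulAut Q) a) * a⁻¹ := by
      rw [h3]
    have e1 : (c : MulAut Q) a * (a⁻¹ * n * a) * a⁻¹ = (c : MulAut Q) a * a⁻¹ * n := by group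
    have e2 : (c : MulAut Q) a * (((c : MulAut Q) a)⁻¹ * n * (c : MulAut Q) a) * a⁻¹ = n * ((c : MulAut Q) a * a⁻¹) := by group
    rw [e1, e2] at h4
    exact h4
  exact mul_inv_eq_one.1 h1

end SocN

/-- the isomorphism of `N` in `𝒢` with `L ^ 1` -/
noncomputable def eN {Q : Type*} [Group Q] {N : Subgroup Q} {Γ : Subgroup (MulAut Q)}
    (hj : Function.Injective (jj Γ)) {L : Type*} [Group L] (e : N ≃* L) : N.map (jj Γ) ≃* (Fin 1 → L) :=
  ((N.equivMapOfInjective (jj Γ) hj).symm.trans e).trans (MulEquiv.funUnique (Fin 1) L).symm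

/-- **`EPT` with an almost simple `A` gives `EPS`** -/
theorem eps_of_ept {Q : Type*} [Group Q] [Finite Q] {A N : Subgroup Q} {Γ : Subgroup (MulAut Q)} (h : EPT A Γ)
    (hN : SocN A N) {L : Type} [Group L] (hL : IsSimpleGroup L) (hab : ∃ a b : L, a * b ≠ b * a) (e : N ≃* L) :
    EPS (HH Γ) (N.map (jj Γ)) (eN (jj_inj h) e) where
  le := (hN.nin h).le
  nrm := (hN.nin h).nrm
  ne := by
    intro h1
    rw [Subgroup.map_eq_bot_iff_of_injective _ (jj_inj h)] at h1
    exact hN.ne_bot h1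
  min := by
    intro K hK hKn
    have h1 : K = (K.comap (jj Γ)).map (jj Γ) := by
      rw [Subgroup.map_comap_eq, inf_eq_right.2 (hK.trans (by
        rintro _ ⟨n, _, rfl⟩
        exact ⟨n, rfl⟩))]
    rcases hN.min' (K := K.comap (jj Γ)) (fun x hx => by
      obtain ⟨n, hn, e⟩ := hK hx
      rw [jj_inj h e] at hn
      exact hn) (fun a ha k hk => by
      rw [mem_comap, map_mul, map_mul, map_inv]
      exact hKn.nrm _ ((jj_mem h).2 (hN.le ha)) _ hk) with h2 | h2
    · left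
      rw [h1, h2, Subgroup.map_bot]
    · right
      rw [h1, h2]
  ep := toEP h
  pos := one_pos
  simple := hL
  nab := hab
  cent := hN.cent_eq h
  least := by
    intro K hK hK1
    by_contra hcon
    have hNn := hN.nin h
    -- `K ∩ N = 1`
    have h1 : K ⊓ N.map (jj Γ) = ⊥ := by
      rcases hN.min' (K := (K ⊓ N.map (jj Γ)).comap (jj Γ)) (fun x hx => by
        obtain ⟨n, hn, e⟩ := hx.2
        rw [jj_inj h e] at hn
        exact hn) (fun a ha k hk => by
        rw [mem_comap, map_mul, map_mul, map_inv]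
        exact ⟨hK.nrm _ ((jj_mem h).2 (hN.le ha)) _ hk.1, hNn.nrm _ ((jj_mem h).2 (hN.le ha)) _ hk.2⟩) with h2 | h2
      · rw [eq_bot_iff_forall]
        rintro _ ⟨hx, ⟨n, hn, rfl⟩⟩
        have h3 : n ∈ (K ⊓ N.map (jj Γ)).comap (jj Γ) := ⟨hx, ⟨n, hn, rfl⟩⟩
        rw [h2, mem_bot] at h3
        rw [h3, map_one]
      · exfalso
        apply hcon
        rintro _ ⟨n, hn, rfl⟩
        rw [← h2] at hn
        exact hn.1
    apply hK1
    rw [eq_bot_iff, ← hN.cent_eq h]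
    intro x hx
    rw [mem_centralizer_iff]
    intro n hn
    have h3 : n * x * n⁻¹ * x⁻¹ ∈ K ⊓ N.map (jj Γ) := by
      constructor
      · exact K.mul_mem (hK.nrm n (hNn.le hn) x hx) (K.inv_mem hx)
      · have e1 : n * x * n⁻¹ * x⁻¹ = n * (x * n⁻¹ * x⁻¹) := by group
        rw [e1]
        exact (N.map (jj Γ)).mul_mem hn (hNn.nrm x (hK.le hx) _ ((N.map (jj Γ)).inv_mem hn))
    rw [h1, mem_bot] at h3
    have h4 := mul_inv_eq_one.1 h3
    exact mul_inv_eq_iff_eq_mul.1 h4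

end Cfsg.Agent.H470.EPO
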