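import Cfsg.Agent.H470.EPO.OwnPan
import Cfsg.Agent.H419.EP.Big

/-!
# `OwnBig` (helper470): own characteristic in the situation `Big`
-/

set_option autoImplicit false
set_option linter.unusedSectionVars false

namespace Cfsg.Agent.H470.EPO

open CoxeterSystem Cfsg.Agent.ChevalleyStructure.CoxeterGeom Cfsg.Agent.Tits.Roots Cfsg.Agent.Tits.Core
  Cfsg.Agent.KFacts.RgdFilt Cfsg.Agent.H284.EPT Cfsg.Agent.H50.Her Cfsg.Agent.H419.EP Cfsg.Agent.H284.Pan
open scoped MatrixGroups

variable {Q : Type} [Group Q] [Finite Q] {A : Subgroup Q} {Γ : Subgroup (MulAut Q)} {ι : Type} [Fintype ι]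
  [DecidableEq ι] {F : Type} [Field F] [Fintype F] {S P : Subgroup (GL ι F)}

theorem big_nab (b : Big A Γ S P) : ∃ x y : socle P, x * y ≠ y * x := by
  have h1 := b.core.nonabelian
  by_contra hcon
  push Not at hcon
  exact h1 ⟨⟨hcon⟩⟩

/-- **`OwnBig`**: the socle has a filtered root group datum of rank at least two, all simple root groups of order at
least three, in the characteristic of `F`. -/
theorem own_big (b : Big A Γ S P) {l : ℕ} (hl : 2 ≤ l) {M : CoxeterMatrix (Fin l)} {L : Type} [Group L]
    (e : socle P ≃* L) (hF : FiltC (ringChar F) 3 M L) : False := by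
  have : Fact (ringChar F).Prime := ⟨CharP.char_is_prime F _⟩
  have := b.simple
  have := b.core.simple
  have : IsSimpleGroup L := e.symm.isSimpleGroup
  have : Finite (socle P) := inferInstance
  have : Finite L := Finite.of_equiv _ e.toEquiv
  obtain ⟨x, y, hxy⟩ := big_nab b
  refine own_filtC hl b.filt b.ept (L := L) ⟨e x, e y, fun h => hxy ?_⟩ (b.hasSoc' e) hF
  rw [← map_mul, ← map_mul] at h
  exact e.injective h

/-- with `HasPan` and `HasFilt`: `char F = 2` and a simple root group has order two -/
theorem own_big_pan (b : Big A Γ S P) {l : ℕ} (hl : 2 ≤ l) {M : CoxeterMatrix (Fin l)} {q : Fin l → ℕ} {L : Type}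
    [Group L] (e : socle P ≃* L) (hP : HasPan (ringChar F) M q L) (hF : HasFilt (ringChar F) L) :
    ringChar F = 2 ∧ ∃ i, q i = 2 := by
  have : Fact (ringChar F).Prime := ⟨CharP.char_is_prime F _⟩
  have := b.simple
  have := b.core.simple
  have : IsSimpleGroup L := e.symm.isSimpleGroup
  have : Finite (socle P) := inferInstance
  have : Finite L := Finite.of_equiv _ e.toEquiv
  obtain ⟨x, y, hxy⟩ := big_nab b
  refine own_pan hl b.filt b.ept (L := L) ⟨e x, e y, fun h => hxy ?_⟩ (b.hasSoc' e) hP hF
  rw [← map_mul, ← map_mul] at h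
  exact e.injective h

end Cfsg.Agent.H470.EPO
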