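import Cfsg.Agent.H470.EPO.RankOne
import Cfsg.Agent.H470.EPO.OwnT

/-!
# Own characteristic, `T` of rank one, `k = 1` : `EPS`-form and `T`-form (helper470)

* `own_r1_S` : `EPS H N e`, `N ≅ T`, `R1 p T` with the hypotheses `Hyp`, `G` with a normal simple subgroup with `HasFilt p`;
* `own_r1_G` : the same for `G` simple with `HasFilt p G`;
* `own_r1_T` : `EPT A Γ`, `SocN A N`, `N ≅ L`.
-/

set_option autoImplicit false
set_option linter.unusedSectionVars false

namespace Cfsg.Agent.H470.EPO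

open Cfsg.Agent.H284 Cfsg.Agent.H284.EPT Cfsg.Agent.H737.EPO Cfsg.Agent.H209.EPX Cfsg.Agent.KFacts.RgdFilt

theorem own_r1_S {G : Type*} [Group G] [Finite G] {H N : Subgroup G} {T : Type} [Group T] [Finite T]
    {e : N ≃* (Fin 1 → T)} (h : EPS H N e) {p : ℕ} [Fact p.Prime]
    {Y : Type*} [Group Y] [Finite Y] [IsSimpleGroup Y] (hY : HasFilt p Y) (hYn : ∃ a b : Y, a * b ≠ b * a)
    {j : Y →* G} (hj : Function.Injective j) (hn : j.range.Normal) (hNj : N ≤ j.range)
    (D : R1 p T) (hD : D.Hyp) : False := by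
  have := h.simple
  refine r1_false e D h.nab h.ep h.toMinN h.cent hD
    (dq_of h hY hYn hj hn hNj D.psys e (fun _ => ∅) (VV_ne_bot e (i := 0) Set.empty_ne_univ)) fun A hA hab => ?_
  -- `A ⊓ Y = 1`
  have h1 : (A.comap j).Normal := hA.comap j
  have h2 : A.comap j = ⊥ := by
    rcases h1.eq_bot_or_eq_top with h2 | h2
    · exact h2
    · exfalso
      obtain ⟨a, b, hab'⟩ := hYn
      apply hab'
      apply hj
      rw [map_mul, map_mul]
      have ha : a ∈ A.comap j := by rw [h2]; trivial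
      have hb : b ∈ A.comap j := by rw [h2]; trivial
      exact hab _ ha _ hb
  rw [Subgroup.eq_bot_iff_forall]
  intro a ha
  have h3 : a ∈ Subgroup.centralizer (N : Set G) := by
    rw [Subgroup.mem_centralizer_iff]
    intro n hn'
    obtain ⟨y, hy⟩ := hNj hn'
    have h4 : n * a * n⁻¹ * a⁻¹ ∈ j.range := by
      have e1 : n * a * n⁻¹ * a⁻¹ = n * (a * n⁻¹ * a⁻¹) := by group
      rw [e1]
      exact mul_mem (hNj hn') (hn.conj_mem _ (inv_mem (hNj hn')) a)
    obtain ⟨z, hz⟩ := h4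
    have h5 : z ∈ A.comap j := by
      show j z ∈ A
      rw [hz]
      exact A.mul_mem (hA.conj_mem a ha n) (A.inv_mem ha)
    rw [h2, Subgroup.mem_bot] at h5
    rw [h5, map_one] at hz
    have h6 := hz.symm
    rw [mul_inv_eq_one, mul_inv_eq_iff_eq_mul] at h6
    exact h6
  rw [h.cent] at h3
  exact h3

/-- the case `G` simple (S5745) -/
theorem own_r1_G {G : Type*} [Group G] [Finite G] [IsSimpleGroup G] {H N : Subgroup G} {T : Type} [Group T]
    {e : N ≃* (Fin 1 → T)} (h : EPS H N e) {p : ℕ} [Fact p.Prime] (hG : HasFilt p G) (D : R1 p T) (hD : D.Hyp) :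
    False := by
  have hfin : Finite T := by
    have h1 : Finite (Fin 1 → T) := Finite.of_equiv N e.toEquiv
    exact Finite.of_surjective (fun f : Fin 1 → T => f 0) fun t => ⟨fun _ => t, rfl⟩
  have hnab : ∃ a b : G, a * b ≠ b * a := by
    obtain ⟨a, b, hab⟩ := h.nab
    refine ⟨(e.symm (fun _ => a) : N), (e.symm (fun _ => b) : N), fun h3 => hab ?_⟩
    have h4 : e.symm (fun _ => a) * e.symm (fun _ => b) = e.symm (fun _ => b) * e.symm (fun _ => a) := Subtype.ext h3
    rw [← map_mul, ← map_mul] at h4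
    exact congrFun (e.symm.injective h4) 0
  exact own_r1_S h hG hnab (j := MonoidHom.id G) Function.injective_id
    (by rw [MonoidHom.range_eq_top.2 (fun x => ⟨x, rfl⟩)]; infer_instance)
    (by rw [MonoidHom.range_eq_top.2 (fun x => ⟨x, rfl⟩)]; exact le_top) D hD

/-- **`T`-form** (S3499) -/
theorem own_r1_T {Q : Type*} [Group Q] [Finite Q] [IsSimpleGroup Q] {p : ℕ} [Fact p.Prime] (hQ : HasFilt p Q)
    (hQn : ∃ a b : Q, a * b ≠ b * a) {A₀ N : Subgroup Q} {Γ : Subgroup (MulAut Q)} (h : H284.EPT A₀ Γ)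
    (hN : SocN A₀ N) {L : Type} [Group L] [Finite L] [IsSimpleGroup L] (hL : ∃ a b : L, a * b ≠ b * a) (e : N ≃* L)
    (D : R1 p L) (hD : D.Hyp) : False := by
  have hfin : Finite (H284.EPT.GG Γ) := finite_GG h
  have hE := eps_of_ept h hN (L := L) inferInstance hL e
  have hn : (jj Γ).range.Normal := by
    refine ⟨?_⟩
    rintro _ ⟨q, rfl⟩ g
    exact ⟨_, (jj_conj Γ g q).symm⟩
  have hNj : N.map (jj Γ) ≤ (jj Γ).range := by
    rintro _ ⟨x, _, rfl⟩
    exact ⟨x, rfl⟩
  exact own_r1_S hE hQ hQn (jj_inj h) hn hNj D hD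

end Cfsg.Agent.H470.EPO
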