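import Cfsg.Agent.H470.EPO.R1Y
import Cfsg.Agent.H375.EPR.Abs

/-!
# Own characteristic, rank one, `k = 1` (helper470)
-/

set_option autoImplicit false
set_option linter.unusedSectionVars false

namespace Cfsg.Agent.H470.EPO

open Cfsg.Agent.H284 Cfsg.Agent.H737.EPO Cfsg.Agent.H209.EPX

namespace R1

variable {T : Type*} [Group T] {p : ℕ} (D : R1 p T)

theorem cj_w_T0 : cj D.w D.T0 = D.T0 := by
  show cj D.w (D.B ⊓ cj D.w D.B) = _
  rw [cj_inf, D.cj_w_cj_w, inf_comm]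
  rfl

theorem w_T0 {t : T} (ht : t ∈ D.T0) : D.w * t * D.w⁻¹ ∈ D.T0 := by
  have h1 := conj_mem_cj (x := D.w) ht
  rwa [D.cj_w_T0] at h1

theorem w_T0' {t : T} (ht : t ∈ D.T0) : D.w⁻¹ * t * D.w ∈ D.T0 := by
  rw [← D.cj_w_T0, mem_cj] at ht
  exact ht

theorem mem_B_of_conj [Finite T] {c : T} (h : ∀ b ∈ D.B, c * b * c⁻¹ ∈ D.B) : c ∈ D.B := by
  apply D.mem_B_of_le
  rw [cj_eq_of_nm h]
  exact D.U_le

theorem triv [Finite T] [IsSimpleGroup T] (hp : p ≤ 3) (hD : D.Hyp) (φ : MulAut T) (hφ : ∀ b ∈ D.B, φ b = b) (x : T) :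
    φ x = x := by
  have hc : D.w⁻¹ * φ D.w ∈ D.B := by
    apply D.mem_B_of_conj
    intro b hb
    have h1 : ∀ t ∈ D.T0, ((MulAut.conj D.w⁻¹) * φ * (MulAut.conj D.w) : MulAut T) t = t := by
      intro t ht
      have h2 : D.w * t * D.w⁻¹ ∈ D.B := (D.w_T0 ht).1
      have h3 : ((MulAut.conj D.w⁻¹) * φ * (MulAut.conj D.w) : MulAut T) t = D.w⁻¹ * φ (D.w * t * D.w⁻¹) * D.w := by
        simp [MulAut.mul_apply, MulAut.conj_apply]
      rw [h3, hφ _ h2]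
      group
    have h4 := hD.inv hp _ h1 b hb
    have h5 : ((MulAut.conj D.w⁻¹) * φ * (MulAut.conj D.w) : MulAut T) b =
        D.w⁻¹ * φ D.w * b * (D.w⁻¹ * φ D.w)⁻¹ := by
      have h6 : ((MulAut.conj D.w⁻¹) * φ * (MulAut.conj D.w) : MulAut T) b = D.w⁻¹ * φ (D.w * b * D.w⁻¹) * D.w := by
        simp [MulAut.mul_apply, MulAut.conj_apply]
      rw [h6, map_mul, map_mul, map_inv, hφ b hb]
      group
    rwa [h5] at h4
  have hall : ∀ x : T, x⁻¹ * φ x ∈ D.B := by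
    intro x
    by_cases hx : x ∈ D.B
    · rw [hφ x hx, inv_mul_cancel]; exact one_mem _
    · obtain ⟨u, hu, b, hb, rfl⟩ := D.tr x hx
      rw [map_mul, map_mul, hφ u (D.U_le hu), hφ b hb]
      have e1 : (u * D.w * b)⁻¹ * (u * φ D.w * b) = b⁻¹ * (D.w⁻¹ * φ D.w) * b := by group
      rw [e1]
      exact D.B.mul_mem (D.B.mul_mem (D.B.inv_mem hb) hc) hb
  have hall2 : ∀ x g : T, g * (x⁻¹ * φ x) * g⁻¹ ∈ D.B := by
    intro x g
    have h1 := hall (x * g⁻¹)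
    have h2 := hall g⁻¹
    have e1 : g * (x⁻¹ * φ x) * g⁻¹ = ((x * g⁻¹)⁻¹ * φ (x * g⁻¹)) * (g⁻¹⁻¹ * φ g⁻¹)⁻¹ := by
      rw [map_mul]
      group
    rw [e1]
    exact D.B.mul_mem h1 (D.B.inv_mem h2)
  have h3 : Subgroup.normalClosure {z : T | ∃ x, z = x⁻¹ * φ x} ≤ D.B := by
    unfold Subgroup.normalClosure
    rw [Subgroup.closure_le]
    intro z hz
    obtain ⟨a, ⟨x, rfl⟩, hax⟩ := Group.mem_conjugatesOfSet_iff.1 hz
    obtain ⟨c, hc⟩ := isConj_iff.1 hax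
    rw [← hc]
    exact hall2 x c
  rcases (inferInstance : (Subgroup.normalClosure {z : T | ∃ x, z = x⁻¹ * φ x}).Normal).eq_bot_or_eq_top with h4 | h4
  · have h5 : x⁻¹ * φ x ∈ Subgroup.normalClosure {z : T | ∃ x, z = x⁻¹ * φ x} :=
      Subgroup.subset_normalClosure ⟨x, rfl⟩
    rw [h4, Subgroup.mem_bot] at h5
    exact (inv_mul_eq_one.1 h5).symm
  · exfalso
    apply D.B_ne_top
    rw [eq_top_iff, ← h4]
    exact h3

/-- an automorphism mapping a nontrivial subgroup of `U` into `U` normalises `U` -/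
theorem aut_U [Finite T] [Fact p.Prime] (φ : MulAut T) {x : T} (hx : x ∈ D.U) (hx1 : x ≠ 1) (h : φ x ∈ D.U) :
    ∀ u ∈ D.U, φ u ∈ D.U := by
  -- `φ(U)` is a Sylow subgroup
  let P : Sylow p T := ⟨D.U, D.pU, fun {Q} hQ hle => D.mU Q hle hQ⟩
  have hP2 : ∀ Q : Subgroup T, IsPGroup p Q → D.U.map φ.toMonoidHom ≤ Q → Q = D.U.map φ.toMonoidHom := by
    intro Q hQ hle
    have h1 : D.U ≤ Q.map φ.symm.toMonoidHom := by
      intro u hu
      exact ⟨φ u, hle ⟨u, hu, rfl⟩, φ.symm_apply_apply u⟩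
    have h2 := D.mU _ h1 (hQ.map _)
    rw [← h2]
    ext q
    constructor
    · intro hq
      exact ⟨φ.symm q, ⟨q, hq, rfl⟩, φ.apply_symm_apply q⟩
    · rintro ⟨_, ⟨q', hq', rfl⟩, rfl⟩
      have : φ.toMonoidHom (φ.symm.toMonoidHom q') = q' := φ.apply_symm_apply q'
      rw [this]
      exact hq'
  let P' : Sylow p T := ⟨D.U.map φ.toMonoidHom, D.pU.map _, fun {Q} hQ hle => hP2 Q hQ hle⟩
  obtain ⟨g, hg⟩ := MulAction.exists_smul_eq T P P'
  have hg' : cj g D.U = D.U.map φ.toMonoidHom := congrArg (fun Q : Sylow p T => (Q : Subgroup T)) hg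
  have h1 : φ x ∈ cj g D.U := by rw [hg']; exact ⟨x, hx, rfl⟩
  have hgB : g ∈ D.B := by
    by_contra hgB
    have h2 := D.ti' hgB h (cj_mono D.U_le h1)
    rw [map_eq_one_iff _ φ.injective] at h2
    exact hx1 h2
  rw [D.cj_U hgB] at hg'
  intro u hu
  rw [hg']
  exact ⟨u, hu, rfl⟩

end R1

section One

variable {G T : Type*} [Group G] [Finite G] [Group T] [Finite T] [IsSimpleGroup T] {H N : Subgroup G}
  (e : N ≃* (Fin 1 → T)) {p : ℕ} [Fact p.Prime] (D : R1 p T)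

omit [Finite G] [Finite T] [IsSimpleGroup T] in
theorem sg_cp {x : G} (hx : x ∈ N) : sg e 0 (cp e x 0) = x := by
  refine ext_cp e (sg_mem e 0 _) hx fun i => ?_
  rw [Subsingleton.elim i 0, cp_sg]

omit [Finite G] [Finite T] [IsSimpleGroup T] in
theorem mem_pk1 {K : Subgroup T} {x : G} : x ∈ pk e (fun _ => K) ↔ ∃ t ∈ K, sg e 0 t = x := by
  constructor
  · intro h
    have h' := (mem_pk e).1 h
    exact ⟨_, h'.2 0, sg_cp e h'.1⟩
  · rintro ⟨t, ht, rfl⟩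
    exact (sg_mem_pk e).2 ht

theorem sg_inj {s t : T} (h : sg e 0 s = sg e 0 t) : s = t := by
  rw [← cp_sg e 0 s, h, cp_sg]

variable (hY : ∃ a b : T, a * b ≠ b * a)

include hY in
/-- the action of `H` on `T` -/
theorem exists_aut (hN : MinN N H) {g : G} (hg : g ∈ H) : ∃ φ : MulAut T, ∀ t, g * sg e 0 t * g⁻¹ = sg e 0 (φ t) := by
  rcases perm_sg e hY (minN_iff hN hg) 0 with h | h
  · exfalso
    obtain ⟨a, b, hab⟩ := hY
    apply hab
    have h1 : g * sg e 0 a * g⁻¹ = 1 := by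
      refine ext_cp e (hN.nrm g hg _ (sg_mem e 0 a)) (one_mem _) fun i => ?_
      rw [Subsingleton.elim i 0, h, cp_one]
    have h2 : sg e 0 a = sg e 0 1 := by
      rw [map_one]
      have : sg e 0 a = g⁻¹ * (g * sg e 0 a * g⁻¹) * g := by group
      rw [this, h1]; group
    rw [sg_inj e h2, one_mul, mul_one]
  · exact h

theorem BH_le_M (hN : MinN N H) : BH H e D.psys ≤ PH H e D.psys fun _ => ∅ := fun x hx =>
  (mem_PH e _).2 ⟨((mem_BH e _).1 hx).1, BH_cj_B e _ hN.nrm hx⟩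

theorem mem_M_of_aut (hN : MinN N H) {g : G} (hg : g ∈ H) {φ : MulAut T} (hφ : ∀ t, g * sg e 0 t * g⁻¹ = sg e 0 (φ t))
    (h : ∀ u ∈ D.U, φ u ∈ D.U) : g ∈ PH H e D.psys fun _ => ∅ := by
  apply BH_le_M e D hN
  refine (mem_BH e _).2 ⟨hg, cj_eq_of_nm fun a ha => ?_⟩
  rw [VV_eq] at ha ⊢
  obtain ⟨u, hu, rfl⟩ := (mem_pk1 e).1 ha
  exact (mem_pk1 e).2 ⟨φ u, h u hu, (hφ u).symm⟩

theorem mem_M_of_aut' (hN : MinN N H) {g : G} (hg : g ∈ H) {φ : MulAut T} (hφ : ∀ t, g * sg e 0 t * g⁻¹ = sg e 0 (φ t))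
    (h : ∀ u ∈ D.B, φ u ∈ D.B) : g ∈ PH H e D.psys fun _ => ∅ := by
  refine (mem_PH e _).2 ⟨hg, cj_eq_of_nm fun a ha => ?_⟩
  rw [PP_eq] at ha ⊢
  obtain ⟨u, hu, rfl⟩ := (mem_pk1 e).1 ha
  exact (mem_pk1 e).2 ⟨φ u, h u hu, (hφ u).symm⟩

include hY in
/-- `C_H(TT) ≤ M` -/
theorem cent_TT_le (hN : MinN N H) (hD : D.Hyp) (hp : p ≤ 3) {g : G} (hg : g ∈ H) (h : ∀ t ∈ TT e D, g * t = t * g) :
    g ∈ PH H e D.psys fun _ => ∅ := by
  obtain ⟨φ, hφ⟩ := exists_aut e hY hN hg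
  refine mem_M_of_aut' e D hN hg hφ (hD.inv hp φ fun t ht => ?_)
  apply sg_inj e
  have h1 : sg e 0 t ∈ TT e D := (sg_mem_pk e).2 ht
  rw [← hφ, h _ h1]
  group

include hY in
/-- an element of `H` centralising `B_N` is trivial -/
theorem cent_PP (hN : MinN N H) (hc : Subgroup.centralizer (N : Set G) = ⊥) (hD : D.Hyp) (hp : p ≤ 3) {g : G}
    (hg : g ∈ H) (h : ∀ t ∈ PP e D.psys (fun _ => ∅), g * t = t * g) : g = 1 := by
  obtain ⟨φ, hφ⟩ := exists_aut e hY hN hg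
  have h1 : ∀ b ∈ D.B, φ b = b := by
    intro b hb
    apply sg_inj e
    have h1 : sg e 0 b ∈ PP e D.psys (fun _ => ∅) := by rw [PP_eq]; exact (sg_mem_pk e).2 hb
    rw [← hφ, h _ h1]
    group
  have h2 := D.triv hp hD φ h1
  have h3 : g ∈ Subgroup.centralizer (N : Set G) := by
    rw [Subgroup.mem_centralizer_iff]
    intro n hn
    rw [← sg_cp e hn]
    have h4 := hφ (cp e n 0)
    rw [h2] at h4
    exact (mul_inv_eq_iff_eq_mul.1 h4).symm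
  rw [hc] at h3
  exact h3

/-- `p = 2` : a 2-element of `G` which centralises `TT` and normalises `U` centralises `B_N` -/
theorem cent_U (hD : D.Hyp) (hp : p = 2) {g : G} (hT : ∀ t ∈ TT e D, g * t = t * g)
    (hU : cj g (VV e D.psys fun _ => ∅) = VV e D.psys fun _ => ∅) {m : ℕ} (hm : g ^ 2 ^ m = 1) :
    ∀ b ∈ PP e D.psys (fun _ => ∅), g * b = b * g := by
  have hU' := hU
  rw [VV_eq] at hU'
  let V : Subgroup G := pk e fun _ => D.U
  let f : D.U ≃* V := MulEquiv.ofBijective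
    ({ toFun := fun u => ⟨sg e 0 u, (mem_pk1 e).2 ⟨u, u.2, rfl⟩⟩
       map_one' := Subtype.ext (map_one _)
       map_mul' := fun a b => Subtype.ext (map_mul _ _ _) } : D.U →* V) ⟨fun a b hab =>
        Subtype.ext (sg_inj e (congrArg (fun z : V => (z : G)) hab)), fun ⟨x, hx⟩ => by
        obtain ⟨t, ht, rfl⟩ := (mem_pk1 e).1 hx
        exact ⟨⟨t, ht⟩, rfl⟩⟩
  have hf : ∀ u : D.U, ((f u : V) : G) = sg e 0 u := fun _ => rfl
  have hgV : g ∈ Subgroup.normalizer (V : Set G) := by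
    rw [Subgroup.mem_normalizer_iff_map_conj_eq]
    exact hU'
  let ρ : Subgroup.normalizer (V : Set G) →* MulAut V := V.normalizerMonoidHom
  let φ : MulAut D.U := MulAut.congr f.symm (ρ ⟨g, hgV⟩)
  have hφ : ∀ u : D.U, sg e 0 (φ u : D.U) = g * sg e 0 u * g⁻¹ := by
    intro u
    rw [← hf]
    show ((f (f.symm (ρ ⟨g, hgV⟩ (f u))) : V) : G) = _
    rw [MulEquiv.apply_symm_apply]
    rfl
  have h1 : φ = 1 := by
    refine hD.p2 hp φ (fun t ht u v huv => ?_) m ?_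
    · apply sg_inj e
      rw [hφ, huv, map_mul, map_mul, map_mul, map_mul, map_inv, hφ]
      have h2 : sg e 0 t ∈ TT e D := (sg_mem_pk e).2 ht
      have h3 := hT _ h2
      have h4 : g * (sg e 0 t)⁻¹ = (sg e 0 t)⁻¹ * g := by
        rw [eq_inv_mul_iff_mul_eq, ← mul_assoc, ← h3, mul_inv_cancel_right]
      calc g * (sg e 0 t * sg e 0 u * (sg e 0 t)⁻¹) * g⁻¹ = (g * sg e 0 t) * sg e 0 u * ((sg e 0 t)⁻¹ * g⁻¹) := by group
        _ = _ := by
          have h5 : (sg e 0 t)⁻¹ * g⁻¹ = g⁻¹ * (sg e 0 t)⁻¹ := by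
            rw [← mul_inv_rev, h3, mul_inv_rev]
          rw [h3, h5]
          group
    · show (MulAut.congr f.symm (ρ ⟨g, hgV⟩)) ^ 2 ^ m = 1
      rw [← map_pow, ← map_pow]
      have h2 : (⟨g, hgV⟩ : Subgroup.normalizer (V : Set G)) ^ 2 ^ m = 1 := Subtype.ext hm
      rw [h2, map_one, map_one]
  have h2 : ∀ u ∈ D.U, g * sg e 0 u = sg e 0 u * g := by
    intro u hu
    have h3 := hφ ⟨u, hu⟩
    rw [h1] at h3
    have h4 : sg e 0 u = g * sg e 0 u * g⁻¹ := h3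
    conv_rhs => rw [h4]
    group
  intro b hb
  rw [PP_eq] at hb
  obtain ⟨c, hcB, rfl⟩ := (mem_pk1 e).1 hb
  obtain ⟨u, hu, t, ht, rfl⟩ := D.exists_UT hcB
  rw [map_mul, ← mul_assoc, h2 u hu, mul_assoc, hT _ ((sg_mem_pk e).2 ht), mul_assoc]

theorem w_notMem : sg e 0 D.w ∉ PH H e D.psys fun _ => ∅ := by
  intro h
  have h1 := norm_PP e D.psys (sg_mem e 0 D.w) ((mem_PH e _).1 h).2
  rw [PP_eq] at h1
  exact D.wB ((sg_mem_pk e).1 h1)

include hY in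
theorem case1 (hN : MinN N H) {M' : Subgroup G} (hM' : MX H N M') (hK : fac e M' 0 ≤ D.B)
    (hne : fac e M' 0 ⊓ D.U ≠ ⊥) : M' = PH H e D.psys fun _ => ∅ := by
  obtain ⟨⟨x, hxK, hxU⟩, hx1⟩ := Subgroup.ne_bot_iff_exists_ne_one.1 hne
  have hx1' : x ≠ 1 := fun h => hx1 (Subtype.ext h)
  have hle : M' ≤ PH H e D.psys fun _ => ∅ := by
    intro m hm
    obtain ⟨φ, hφ⟩ := exists_aut e hY hN (hM'.le hm)
    have h1 : φ x ∈ fac e M' 0 := by
      show sg e 0 (φ x) ∈ M'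
      rw [← hφ]
      exact M'.mul_mem (M'.mul_mem hm hxK) (M'.inv_mem hm)
    have h2 : IsPGroup p (Subgroup.zpowers (φ x)) := by
      have h3 : IsPGroup p (Subgroup.zpowers x) := D.pU.to_le (Subgroup.zpowers_le.2 hxU)
      have h4 := h3.map φ.toMonoidHom
      rwa [MonoidHom.map_zpowers] at h4
    have h3 : φ x ∈ D.U := D.p_mem_U (Subgroup.zpowers_le.2 (hK h1)) h2 (Subgroup.mem_zpowers _)
    exact mem_M_of_aut e D hN (hM'.le hm) hφ (D.aut_U φ hxU hx1' h3)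
  rcases hM'.max _ hle inf_le_left with h1 | h1
  · exact h1.symm
  · exfalso
    apply w_notMem e D (H := H)
    rw [h1]
    exact hN.le (sg_mem e 0 D.w)

theorem fac_cj (M' : Subgroup G) (t : T) : fac e (cj (sg e 0 t) M') 0 = cj t (fac e M' 0) := by
  ext x
  rw [mem_cj, mem_fac, mem_fac, mem_cj, ← map_inv, ← map_mul, ← map_mul]

include hY in
/-- the two point stabilisers above the torus -/
theorem two_over_T (h : EP H) (hN : MinN N H) {Zs : Finset (Subgroup T)} (hZ1 : ∀ Z ∈ Zs, Z ≠ ⊥ ∧ Z ≠ ⊤)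
    (hZ : ∀ K : Subgroup T, D.T0 ≤ K → K ≠ ⊤ → (K ≤ D.B ∧ K ⊓ D.U ≠ ⊥) ∨ (K ≤ cj D.w D.B ∧ K ⊓ cj D.w D.U ≠ ⊥) ∨
      ∃ Z ∈ Zs, ∀ φ : MulAut T, (∀ x ∈ K, φ x ∈ K) → ∀ z ∈ Z, φ z ∈ Z)
    {M' : Subgroup G} (hM' : M' ∈ EP.twoSet H) (hT : TT e D ≤ M') :
    M' = PH H e D.psys (fun _ => ∅) ∨ M' = cj (sg e 0 D.w) (PH H e D.psys fun _ => ∅) ∨
      ∃ Z ∈ Zs, M' = H ⊓ Subgroup.normalizer (Z.map (sg e 0) : Set G) := by
  have hMX := mx_of_two h hN hM'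
  have h1 : D.T0 ≤ fac e M' 0 := fun t ht => hT ((sg_mem_pk e).2 ht)
  have h2 : fac e M' 0 ≠ ⊤ := fac_ne_top e hY hN hMX 0
  rcases hZ _ h1 h2 with ⟨h3, h4⟩ | ⟨h3, h4⟩ | ⟨Z, hZZ, h3⟩
  · exact Or.inl (case1 e D hY hN hMX h3 h4)
  · right; left
    have hw : sg e 0 D.w ∈ H := hN.le (sg_mem e 0 D.w)
    have h5 := case1 e D hY hN (hMX.cj hN.nrm (inv_mem hw)) (M' := cj (sg e 0 D.w)⁻¹ M') (by
      rw [← map_inv, fac_cj]
      have := cj_mono (x := D.w⁻¹) h3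
      rwa [cj_inv_cj] at this) (by
      rw [← map_inv, fac_cj]
      intro h6
      apply h4
      have h7 := congrArg (cj D.w) h6
      rw [cj_inf, cj_cj_inv] at h7
      rw [h7]
      exact Subgroup.map_bot _)
    rw [← h5, cj_cj_inv]
  · right; right
    refine ⟨Z, hZZ, ?_⟩
    have hQN : Z.map (sg e 0) ≤ N := by
      rintro _ ⟨z, _, rfl⟩
      exact sg_mem e 0 z
    have hQ1 : Z.map (sg e 0) ≠ ⊥ := by
      intro h4
      apply (hZ1 Z hZZ).1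
      rw [Subgroup.eq_bot_iff_forall]
      intro z hz
      have h5 : sg e 0 z ∈ Z.map (sg e 0) := ⟨z, hz, rfl⟩
      rw [h4, Subgroup.mem_bot] at h5
      apply sg_inj e
      rw [h5, map_one]
    have hQ2 : Z.map (sg e 0) ≠ N := by
      intro h4
      apply (hZ1 Z hZZ).2
      rw [eq_top_iff]
      intro z _
      have h5 : sg e 0 z ∈ Z.map (sg e 0) := by rw [h4]; exact sg_mem e 0 z
      obtain ⟨z', hz', hzz⟩ := h5
      rwa [← sg_inj e hzz]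
    have hQ : ∀ m ∈ M', ∀ a ∈ Z.map (sg e 0), m * a * m⁻¹ ∈ Z.map (sg e 0) := by
      rintro m hm _ ⟨z, hz, rfl⟩
      obtain ⟨φ, hφ⟩ := exists_aut e hY hN (hMX.le hm)
      rw [hφ]
      refine ⟨φ z, h3 φ (fun x hx => ?_) z hz, rfl⟩
      show sg e 0 (φ x) ∈ M'
      rw [← hφ]
      exact M'.mul_mem (M'.mul_mem hm hx) (M'.inv_mem hm)
    apply le_antisymm
    · refine le_inf hMX.le fun m hm => ?_
      rw [Subgroup.mem_normalizer_iff_map_conj_eq]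
      exact cj_eq_of_nm (hQ m hm)
    · intro x hx
      have hx2 := (Subgroup.mem_inf.1 hx).2
      rw [Subgroup.mem_normalizer_iff_map_conj_eq] at hx2
      exact hMX.norm hN hQN hQ1 hQ2 hQ (Subgroup.mem_inf.1 hx).1 hx2

end One

end Cfsg.Agent.H470.EPO
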