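import Cfsg.Agent.H470.EPO.R1

/-!
# The parabolic system of a group of rank one (helper470)
-/

set_option autoImplicit false

namespace Cfsg.Agent.H470.EPO

open Cfsg.Agent.H284 Cfsg.Agent.H737.EPO

namespace R1

variable {p : ℕ} {T : Type*} [Group T] (D : R1 p T)

theorem U_ne_bot : D.U ≠ ⊥ := by
  intro h
  apply D.wB
  rw [← D.nU, h, Subgroup.mem_normalizer_iff_map_conj_eq]
  exact Subgroup.map_bot _

theorem B_ne_top : D.B ≠ ⊤ := fun h => D.wB (h ▸ Subgroup.mem_top _)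

theorem cj_U {b : T} (hb : b ∈ D.B) : cj b D.U = D.U := by
  rw [← D.nU, Subgroup.mem_normalizer_iff_map_conj_eq] at hb
  exact hb

theorem ti' {g : T} (hg : g ∉ D.B) {u : T} (hu : u ∈ D.U) (h : u ∈ cj g D.B) : u = 1 := by
  obtain ⟨v, hv, b, hb, rfl⟩ := D.tr g hg
  rw [cj_mul, cj_eq_self hb, cj_mul, mem_cj] at h
  have h1 : v⁻¹ * u * v ∈ D.U := mul_mem (mul_mem (inv_mem hv) hu) hv
  have h2 : v⁻¹ * u * v ∈ D.U ⊓ cj D.w D.B := ⟨h1, h⟩
  rw [D.ti, Subgroup.mem_bot] at h2
  have : u = v * (v⁻¹ * u * v) * v⁻¹ := by group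
  rw [this, h2]; group

theorem mem_B_of_le {g : T} (h : D.U ≤ cj g D.B) : g ∈ D.B := by
  by_contra hg
  exact D.U_ne_bot ((Subgroup.eq_bot_iff_forall _).2 fun u hu => D.ti' hg hu (h hu))

theorem eq_of_B_le {L : Subgroup T} (h : D.B ≤ L) : L = D.B ∨ L = ⊤ := by
  by_cases h1 : L ≤ D.B
  · exact Or.inl (le_antisymm h1 h)
  · right
    obtain ⟨g, hg, hgB⟩ := Set.not_subset.1 h1
    obtain ⟨u, hu, b, hb, rfl⟩ := D.tr g hgB
    have hw : D.w ∈ L := by
      have h2 := L.mul_mem (L.mul_mem (L.inv_mem (h (D.U_le hu))) hg) (L.inv_mem (h hb))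
      have e1 : u⁻¹ * (u * D.w * b) * b⁻¹ = D.w := by group
      rwa [e1] at h2
    rw [eq_top_iff]
    intro x _
    by_cases hx : x ∈ D.B
    · exact h hx
    · obtain ⟨u', hu', b', hb', rfl⟩ := D.tr x hx
      exact L.mul_mem (L.mul_mem (h (D.U_le hu')) hw) (h hb')

theorem le_B_of_U_le [IsSimpleGroup T] {K : Subgroup T} (hK : K ≠ ⊤) (h : D.U ≤ K) : K ≤ D.B := by
  intro k hk
  by_contra hkB
  obtain ⟨u, hu, b, hb, rfl⟩ := D.tr k hkB
  have hv : D.w * b ∈ K := by
    have h2 := K.mul_mem (K.inv_mem (h hu)) hk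
    have e1 : u⁻¹ * (u * D.w * b) = D.w * b := by group
    rwa [e1] at h2
  have hall : ∀ x : T, cj x D.U ≤ K := by
    intro x
    by_cases hx : x ∈ D.B
    · rw [D.cj_U hx]; exact h
    · obtain ⟨u', hu', b', hb', rfl⟩ := D.tr x hx
      rw [cj_mul, D.cj_U hb', cj_mul, cj_le_iff]
      rw [cj_eq_self (inv_mem (h hu') : u'⁻¹ ∈ K)]
      have h3 : cj D.w D.U = cj (D.w * b) D.U := by rw [cj_mul, D.cj_U hb]
      rw [h3, cj_le_iff, cj_eq_self (inv_mem hv)]
      exact h
  apply hK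
  have h3 : Subgroup.normalClosure (D.U : Set T) ≤ K := by
    unfold Subgroup.normalClosure
    rw [Subgroup.closure_le]
    intro x hx
    obtain ⟨a, ha, hax⟩ := Group.mem_conjugatesOfSet_iff.1 hx
    obtain ⟨c, hc⟩ := isConj_iff.1 hax
    rw [← hc]
    exact hall c (conj_mem_cj ha)
  rcases (inferInstance : (Subgroup.normalClosure (D.U : Set T)).Normal).eq_bot_or_eq_top with h4 | h4
  · exfalso
    apply D.U_ne_bot
    rw [eq_bot_iff, ← h4]
    exact Subgroup.le_normalClosure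
  · rw [eq_top_iff, ← h4]
    exact h3

theorem nm_le [Finite T] [Fact p.Prime] {S : Subgroup T} (hS : IsPGroup p S)
    (h : ∀ u ∈ D.U, ∀ s ∈ S, u * s * u⁻¹ ∈ S) : S ≤ D.U := by
  have h1 : D.U ≤ Subgroup.normalizer (S : Set T) := by
    intro u hu
    rw [Subgroup.mem_normalizer_iff_map_conj_eq]
    exact cj_eq_of_nm (h u hu)
  have h2 : IsPGroup p (D.U ⊔ S : Subgroup T) := D.pU.to_sup_of_normal_right' hS h1
  have h3 := D.mU _ le_sup_left h2
  rw [← h3]
  exact le_sup_right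

theorem canon1 [Finite T] [Fact p.Prime] [IsSimpleGroup T] {K : Subgroup T} (hK : K ≠ ⊤) {g : T} (h : cj g D.U ≤ K) :
    K ≤ cj g D.B ∧ ∀ φ : MulAut T, (∀ k ∈ K, φ k ∈ K) → ∀ x ∈ cj g D.B, φ x ∈ cj g D.B := by
  have h1 : cj g⁻¹ K ≤ D.B := by
    apply D.le_B_of_U_le
    · intro h2
      apply hK
      rw [eq_top_iff]
      intro x _
      have h3 : g⁻¹ * x * g ∈ cj g⁻¹ K := by rw [h2]; trivial
      rw [mem_cj, inv_inv] at h3
      have e1 : g * (g⁻¹ * x * g) * g⁻¹ = x := by group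
      rwa [e1] at h3
    · rwa [cj_le_iff] at h
  have hKB : K ≤ cj g D.B := by
    have := cj_mono (x := g) h1
    rwa [cj_cj_inv] at this
  refine ⟨hKB, fun φ hφ => ?_⟩
  -- `φ` maps `gUg⁻¹` to itself
  have h3 : ((cj g D.U).map φ.toMonoidHom) ≤ K := by
    rintro _ ⟨u, hu, rfl⟩
    exact hφ u (h hu)
  have h4 : IsPGroup p ((cj g D.U).map φ.toMonoidHom) := (D.pU.map _).map _
  have h5 : cj g⁻¹ ((cj g D.U).map φ.toMonoidHom) ≤ D.U := by
    have h6 : cj g⁻¹ ((cj g D.U).map φ.toMonoidHom) ≤ Subgroup.normalizer (D.U : Set T) := by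
      rw [D.nU]
      exact (cj_mono h3).trans h1
    have h7 : IsPGroup p (cj g⁻¹ ((cj g D.U).map φ.toMonoidHom) ⊔ D.U : Subgroup T) :=
      (h4.map _).to_sup_of_normal_right' D.pU h6
    exact le_sup_left.trans (D.mU _ le_sup_right h7).le
  have h9 : (cj g D.U).map φ.toMonoidHom = cj g D.U := by
    apply Subgroup.eq_of_le_of_card_ge
    · have h10 := cj_mono (x := g) h5
      rwa [cj_cj_inv] at h10
    · exact (Subgroup.card_map_of_injective (K := cj g D.U) (f := φ.toMonoidHom) φ.injective).ge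
  have h4 : ∀ x, x ∈ cj g D.B ↔ cj x (cj g D.U) = cj g D.U := by
    intro x
    rw [mem_cj, ← D.nU, Subgroup.mem_normalizer_iff_map_conj_eq]
    constructor
    · intro h5
      have h6 : cj (g⁻¹ * x * g) D.U = D.U := h5
      have e1 : x * g = g * (g⁻¹ * x * g) := by group
      rw [← cj_mul, e1, cj_mul, h6]
    · intro h5
      show cj (g⁻¹ * x * g) D.U = D.U
      rw [mul_assoc, cj_mul, cj_mul, h5, cj_inv_cj]
  intro x hx
  rw [h4] at hx ⊢
  apply cj_eq_of_nm
  intro a ha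
  rw [← h9] at ha
  obtain ⟨a', ha', rfl⟩ := ha
  have h5 : x * a' * x⁻¹ ∈ cj g D.U := by
    rw [← hx]
    exact conj_mem_cj ha'
  have h6 : φ (x * a' * x⁻¹) ∈ (cj g D.U).map φ.toMonoidHom := ⟨_, h5, rfl⟩
  rw [h9, map_mul, map_mul, map_inv] at h6
  exact h6

open Classical in
/-- **the parabolic system** -/
noncomputable def psys [Finite T] [Fact p.Prime] [IsSimpleGroup T] : PSys T p Unit where
  P J := if J = ∅ then D.B else ⊤
  V J := if J = ∅ then D.U else ⊥
  P_univ := if_neg Set.univ_nonempty.ne_empty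
  P_le_iff {J L} := by
    rcases Set.eq_empty_or_nonempty J with rfl | hJ
    · rw [if_pos rfl]
      by_cases hL : L = ∅
      · rw [if_pos hL]; simp
      · rw [if_neg hL]; simp
    · rw [if_neg hJ.ne_empty]
      rcases Set.eq_empty_or_nonempty L with rfl | hL
      · rw [if_pos rfl]
        constructor
        · intro h
          exact absurd (top_le_iff.1 h) D.B_ne_top
        · intro h
          exact absurd (Set.subset_empty_iff.1 h) hJ.ne_empty
      · rw [if_neg hL.ne_empty]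
        constructor
        · intro _ x _
          obtain ⟨y, hy⟩ := hL
          exact hy
        · intro _; exact le_rfl
  ov L hL := by
    rw [if_pos rfl] at hL
    rcases D.eq_of_B_le hL with h | h
    · exact ⟨∅, by rw [if_pos rfl]; exact h⟩
    · exact ⟨Set.univ, by rw [if_neg Set.univ_nonempty.ne_empty]; exact h⟩
  V_anti {J L} h := by
    rcases Set.eq_empty_or_nonempty L with rfl | hL
    · rw [Set.subset_empty_iff.1 h]
    · rw [if_neg hL.ne_empty]; exact bot_le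
  V_le J := by
    by_cases hJ : J = ∅
    · rw [if_pos hJ, if_pos hJ]; exact D.U_le
    · rw [if_neg hJ]; exact bot_le
  V_norm J := by
    by_cases hJ : J = ∅
    · rw [if_pos hJ, if_pos hJ, D.nU]
    · rw [if_neg hJ, if_neg hJ]
      intro x _
      rw [Subgroup.mem_normalizer_iff_map_conj_eq]
      exact Subgroup.map_bot _
  U_norm := by
    rw [if_pos rfl, if_pos rfl]
    exact D.nU
  U_p := by
    rw [if_pos rfl]
    exact D.pU
  U_max S hS hp := by
    rw [if_pos rfl] at hS ⊢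
    exact D.mU S hS hp
  V_max {J S} hS hp hn := by
    by_cases hJ : J = ∅
    · rw [if_pos hJ] at hS hn ⊢
      exact D.nm_le hp fun u hu => hn u (D.U_le hu)
    · rw [if_neg hJ] at hS hn ⊢
      have h1 : S ≤ D.U := D.nm_le hp fun u _ => hn u (Subgroup.mem_top _)
      intro s hs
      have h2 : s ∈ cj D.w D.B := by
        rw [mem_cj]
        apply D.U_le
        apply h1
        have := hn D.w⁻¹ (Subgroup.mem_top _) s hs
        rwa [inv_inv] at this
      have h3 : s ∈ D.U ⊓ cj D.w D.B := ⟨h1 hs, h2⟩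
      rwa [D.ti] at h3
  dec {J L g} h := by
    by_cases hJ : J = ∅
    · by_cases hL : L = ∅
      · rw [if_pos hJ, if_pos hL] at h
        refine ⟨g, ?_, 1, one_mem _, by group⟩
        rw [if_pos hJ]
        exact D.mem_B_of_le h
      · refine ⟨1, one_mem _, g, ?_, by group⟩
        rw [if_neg hL]
        trivial
    · refine ⟨g, ?_, 1, one_mem _, by group⟩
      rw [if_neg hJ]
      trivial
  canon {K} hK {J} hJ {g} h := by
    have hJ0 : J = ∅ := by
      by_contra h1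
      obtain ⟨y, hy⟩ := Set.nonempty_iff_ne_empty.2 h1
      exact hJ (Set.eq_univ_of_forall fun x => hy)
    rw [if_pos hJ0] at h
    obtain ⟨h1, h2⟩ := D.canon1 hK h
    refine ⟨∅, g, Set.empty_ne_univ, ?_, fun φ hφ => ?_⟩
    · rw [if_pos rfl]; exact h1
    · rw [if_pos rfl]; exact h2 φ hφ

section

variable [Finite T] [Fact p.Prime] [IsSimpleGroup T]

theorem psys_P : (D.psys).P ∅ = D.B := if_pos rfl

theorem psys_V : (D.psys).V ∅ = D.U := if_pos rfl

theorem psys_V' {J : Set Unit} (h : J ≠ ∅) : (D.psys).V J = ⊥ := if_neg h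

theorem rk : Rk D.psys where
  desc {J g} hg hgB := by
    have hJ : J ≠ ∅ := by
      rintro rfl
      exact hgB hg
    obtain ⟨y, hy⟩ := Set.nonempty_iff_ne_empty.2 hJ
    refine ⟨y, hy, fun u hu h => ?_⟩
    rw [D.psys_V] at hu
    rw [D.psys_P] at h hgB
    have h1 : u ∈ cj g D.B := by rwa [mem_cj]
    rw [D.ti' hgB hu h1]
    exact one_mem _
  trans {j x y} _ hxB _ hyB := by
    rw [D.psys_P] at hxB hyB
    rw [D.psys_P, D.psys_V]
    obtain ⟨u, hu, b, hb, rfl⟩ := D.tr x hxB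
    obtain ⟨u', hu', b', hb', rfl⟩ := D.tr y hyB
    refine ⟨u' * u⁻¹, mul_mem hu' (inv_mem hu), ?_⟩
    have e1 : (u' * D.w * b')⁻¹ * (u' * u⁻¹) * (u * D.w * b) = b'⁻¹ * b := by group
    rw [e1]
    exact mul_mem (inv_mem hb') hb
  ne j := by
    rw [D.psys_V, D.psys_V' (Set.singleton_nonempty j).ne_empty]
    exact fun h => D.U_ne_bot h.symm

end

end R1

end Cfsg.Agent.H470.EPO
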