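import Cfsg.Agent.H470.EPO.R1Sys
import Cfsg.Agent.S0026

/-!
# Own characteristic, rank one: the element `y` (helper470)

`exists_y` : a `p`-element `y ∉ H` which centralises the torus `TT`, normalises `U`, `M = N_H(U)`, and `[M, y]` is in a
normal `p`-subgroup of `M`.
-/

set_option autoImplicit false
set_option linter.unusedSectionVars false

namespace Cfsg.Agent.H470.EPO

open Cfsg.Agent.H284 Cfsg.Agent.H737.EPO Cfsg.Agent.H209.EPX

/-- the group `T0 ^ k` -/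
def TT {G T : Type*} [Group G] [Group T] {N : Subgroup G} {k p : ℕ} (e : N ≃* (Fin k → T)) (D : R1 p T) : Subgroup G :=
  pk e fun _ => D.T0

section

variable {G T : Type*} [Group G] [Finite G] [Group T] [Finite T] [IsSimpleGroup T] {H N : Subgroup G} {k : ℕ}
  (e : N ≃* (Fin k → T)) {p : ℕ} [Fact p.Prime] (D : R1 p T)

theorem R1.p_mem_U {S : Subgroup T} (hS : S ≤ D.B) (hp : IsPGroup p S) : S ≤ D.U := by
  have h2 : IsPGroup p (S ⊔ D.U : Subgroup T) := hp.to_sup_of_normal_right' D.pU (by rw [D.nU]; exact hS)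
  exact le_sup_left.trans (D.mU _ le_sup_right h2).le

theorem R1.T0_inf_U {t : T} (ht : t ∈ D.T0) (hU : t ∈ D.U) : t = 1 := by
  have : t ∈ D.U ⊓ cj D.w D.B := ⟨hU, ht.2⟩
  rwa [D.ti, Subgroup.mem_bot] at this

theorem R1.T0_p {t : T} (ht : t ∈ D.T0) (h : t ^ p = 1) : t = 1 := by
  apply D.T0_inf_U ht
  have h1 : IsPGroup p (Subgroup.zpowers t) := by
    rintro ⟨x, hx⟩
    obtain ⟨n, rfl⟩ := Subgroup.mem_zpowers_iff.1 hx
    refine ⟨1, Subtype.ext ?_⟩
    show (t ^ n) ^ p ^ 1 = 1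
    rw [pow_one, ← zpow_natCast, ← zpow_mul, mul_comm, zpow_mul, zpow_natCast, h, one_zpow]
  exact D.p_mem_U (Subgroup.zpowers_le.2 ht.1) h1 (Subgroup.mem_zpowers t)

theorem cp_pow {x : G} (hx : x ∈ N) (i : Fin k) (n : ℕ) : cp e (x ^ n) i = cp e x i ^ n := by
  induction n with
  | zero => rw [pow_zero, pow_zero, cp_one]
  | succ n ih => rw [pow_succ, pow_succ, cp_mul e (pow_mem hx n) hx, ih]

theorem TT_coprime {Q : Subgroup G} (hQ : IsPGroup p Q) : (Nat.card (TT e D)).Coprime (Nat.card Q) := by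
  obtain ⟨n, hn⟩ := IsPGroup.iff_card.1 hQ
  rw [hn]
  apply Nat.Coprime.pow_right
  rw [Nat.coprime_comm, (Fact.out : p.Prime).coprime_iff_not_dvd]
  intro hd
  obtain ⟨x, hx⟩ := exists_prime_orderOf_dvd_card' p hd
  have h0 := pow_orderOf_eq_one x
  rw [hx] at h0
  have h1 : (x : G) ^ p = 1 := by
    have h3 := congrArg Subtype.val h0
    simpa using h3
  have hx' := (mem_pk e).1 x.2
  have h2 : (x : G) = 1 := by
    refine ext_cp e hx'.1 (one_mem _) fun i => ?_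
    rw [cp_one]
    apply D.T0_p (hx'.2 i)
    rw [← cp_pow e hx'.1, h1, cp_one]
  have h3 : x = 1 := Subtype.ext h2
  rw [h3, orderOf_one] at hx
  exact (Fact.out : p.Prime).one_lt.ne hx

theorem VV_eq : VV e D.psys (fun _ => ∅) = pk e fun _ => D.U := by
  unfold VV
  simp only [D.psys_V]

theorem PP_eq : PP e D.psys (fun _ => ∅) = pk e fun _ => D.B := by
  unfold PP
  simp only [D.psys_P]

theorem TT_le_PP : TT e D ≤ PP e D.psys fun _ => ∅ := by
  rw [PP_eq]
  exact (pk_le_iff e).2 fun _ => inf_le_left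

variable (hY : ∃ a b : T, a * b ≠ b * a)

include hY

/-- two point stabilisers above `U` -/
theorem two_over_U (h : EP H) (hN : MinN N H) {M : Subgroup G} (hM : M ∈ EP.twoSet H)
    (hU : VV e D.psys (fun _ => ∅) ≤ M) : M = PH H e D.psys fun _ => ∅ := by
  obtain ⟨L, hL, -, -, h1, -⟩ := std e D.psys hY hN (mx_of_two h hN hM) hU
  have : L = fun _ => ∅ := by
    funext i
    by_contra h2
    obtain ⟨x, hx⟩ := Set.nonempty_iff_ne_empty.2 h2
    exact hL i (Set.eq_univ_of_forall fun _ => hx)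
  rw [h1, this]

/-- **the element `y`** -/
theorem exists_y (h : EP H) (hN : MinN N H) (hD : D.Hyp) (hDQ : DQ (p := p) H e D.psys fun _ => ∅) :
    ∃ (y : G) (E : Subgroup G), y ∉ H ∧ (∀ t ∈ TT e D, y * t = t * y) ∧
      H ⊓ cj y H = PH H e D.psys (fun _ => ∅) ∧
      cj y (PH H e D.psys fun _ => ∅) = PH H e D.psys (fun _ => ∅) ∧
      cj y (VV e D.psys fun _ => ∅) = VV e D.psys (fun _ => ∅) ∧ (∃ m : ℕ, y ^ p ^ m = 1) ∧ IsPGroup p E ∧
      ∀ b ∈ PH H e D.psys (fun _ => ∅), b * y * b⁻¹ * y⁻¹ ∈ E := by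
  obtain ⟨E, Q, hVE, hEM, hEp, hEn, hQp, hQn, hEQ, hQH, hQE⟩ := hDQ
  obtain ⟨W, hWQ, hWE, v⟩ := exists_vecB (Fact.out : p.Prime) hEn hQp hQn hEQ hQH hQE
  set M := PH H e D.psys fun _ => ∅ with hMdef
  have hMH : M ≤ H := inf_le_left
  have hEH : E ≤ H := hEM.trans hMH
  have hone : ∀ x ∈ W, x ∉ E → H ⊓ cj x H = M := by
    intro x hx hxE
    refine two_over_U e D hY h hN ⟨x, v.notMem_H hx hxE, rfl⟩ (hVE.trans (le_inf hEH ?_))
    have h1 : cj x E = E := cj_eq_of_nm (v.WD x hx)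
    rw [← h1]
    exact cj_mono hEH
  have hcj : ∀ x ∈ W, x ∉ E → cj x M = M := by
    intro x hx hxE
    have h1 := hone x hx hxE
    have h2 := hone x⁻¹ (inv_mem hx) (fun h3 => hxE (by have := inv_mem h3; rwa [inv_inv] at this))
    conv_lhs => rw [← h2]
    rw [cj_inf, cj_cj_inv, inf_comm]
    exact h1
  have hTM : TT e D ≤ M := (TT_le_PP e D).trans (PP_le_PH e _ hN.le _)
  -- the fixed points of `TT` on `W`
  have hcomm : ⁅W, TT e D⁆ ≤ E := by
    rw [Subgroup.commutator_le]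
    intro x hx t ht
    rw [commutatorElement_def]
    by_cases hxE : x ∈ E
    · have h1 := v.Wn t (hTM ht) x⁻¹ (inv_mem hx)
      have h2 := hEn t (hTM ht) x⁻¹ (inv_mem hxE)
      have e1 : x * t * x⁻¹ * t⁻¹ = x * (t * x⁻¹ * t⁻¹) := by group
      rw [e1]
      exact mul_mem hxE h2
    · have h1 := v.Wn t (hTM ht) x⁻¹ (inv_mem hx)
      have h3 : x * t * x⁻¹ * t⁻¹ ∈ W := by
        have e1 : x * t * x⁻¹ * t⁻¹ = x * (t * x⁻¹ * t⁻¹) := by group
        rw [e1]
        exact mul_mem hx h1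
      have h4 : x * t * x⁻¹ ∈ M := by
        rw [← hcj x hx hxE]
        exact conj_mem_cj (hTM ht)
      rw [← v.WH]
      exact ⟨h3, H.mul_mem (hMH h4) (H.inv_mem (hMH (hTM ht)))⟩
  have hWp : IsPGroup p W := hQp.to_le hWQ
  have hnW : TT e D ≤ Subgroup.normalizer (W : Set G) := by
    intro t ht
    rw [Subgroup.mem_normalizer_iff_map_conj_eq]
    exact cj_eq_of_nm (v.Wn t (hTM ht))
  have hfin := S0026.result (TT e D) W hnW (TT_coprime e D hWp) (Or.inr (by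
    have := hWp.isNilpotent
    infer_instance))
  obtain ⟨y, hy, hyE⟩ : ∃ y ∈ W ⊓ Subgroup.centralizer (TT e D : Set G), y ∉ E := by
    by_contra hcon
    push Not at hcon
    apply hWE
    apply le_antisymm _ v.DW
    rw [← hfin]
    exact sup_le hcomm hcon
  have hyT : ∀ t ∈ TT e D, y * t = t * y := fun t ht => (Subgroup.mem_centralizer_iff.1 hy.2 t ht).symm
  have hyM := hcj y hy.1 hyE
  have hbE : ∀ b ∈ M, b * y * b⁻¹ * y⁻¹ ∈ E := by
    intro b hb
    rw [← v.WH]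
    refine Subgroup.mem_inf.2 ⟨mul_mem (v.Wn b hb y hy.1) (inv_mem hy.1), ?_⟩
    have h1 : y * b⁻¹ * y⁻¹ ∈ M := by
      rw [← hyM]
      exact conj_mem_cj (inv_mem hb)
    have e1 : b * y * b⁻¹ * y⁻¹ = b * (y * b⁻¹ * y⁻¹) := by group
    rw [e1]
    exact hMH (mul_mem hb h1)
  -- `E ⊓ N = U`
  have hEN : E ⊓ N = VV e D.psys fun _ => ∅ :=
    UU_max e _ inf_le_right (hEp.to_le inf_le_left) (le_inf hVE (VV_le e _ _))
  have hyU : VV e D.psys (fun _ => ∅) ≤ cj y⁻¹ (VV e D.psys fun _ => ∅) := by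
    have h1 : ∀ i : Fin k, ((VV e D.psys (fun _ => ∅)) ⊓ cj y⁻¹ (VV e D.psys fun _ => ∅)).comap (sg e i) = D.U := by
      intro i
      apply hD.comm
      · intro t ht
        have h2 : sg e i t ∈ VV e D.psys fun _ => ∅ := ht.1
        rw [VV_eq] at h2
        exact (sg_mem_pk e).1 h2
      · intro u hu t ht
        have hu' : sg e i u ∈ VV e D.psys fun _ => ∅ := by rw [VV_eq]; exact (sg_mem_pk e).2 hu
        have ht' : sg e i t ∈ TT e D := (sg_mem_pk e).2 ht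
        have h3 : ∀ d ∈ E, d * sg e i t * d⁻¹ * (sg e i t)⁻¹ ∈ VV e D.psys fun _ => ∅ := by
          intro d hd
          rw [← hEN]
          refine Subgroup.mem_inf.2 ⟨?_, ?_⟩
          · have h4 := hEn _ (hTM ht') d⁻¹ (inv_mem hd)
            have e1 : d * sg e i t * d⁻¹ * (sg e i t)⁻¹ = d * (sg e i t * d⁻¹ * (sg e i t)⁻¹) := by group
            rw [e1]
            exact mul_mem hd h4
          · exact mul_mem (hN.nrm d (hEH hd) _ (sg_mem e i t)) (inv_mem (sg_mem e i t))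
        show sg e i (u * t * u⁻¹ * t⁻¹) ∈ (VV e D.psys (fun _ => ∅)) ⊓ cj y⁻¹ (VV e D.psys fun _ => ∅)
        rw [map_mul, map_mul, map_mul, map_inv, map_inv]
        refine Subgroup.mem_inf.2 ⟨h3 _ (hVE hu'), ?_⟩
        rw [mem_cj, inv_inv]
        have hyE' : y * sg e i u * y⁻¹ ∈ E := v.WD y hy.1 _ (hVE hu')
        have h4 := h3 _ hyE'
        have h5 : y * sg e i t * y⁻¹ = sg e i t := by rw [hyT _ ht']; group
        have e1 : y * (sg e i u * sg e i t * (sg e i u)⁻¹ * (sg e i t)⁻¹) * y⁻¹ =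
            (y * sg e i u * y⁻¹) * (y * sg e i t * y⁻¹) * (y * sg e i u * y⁻¹)⁻¹ * (y * sg e i t * y⁻¹)⁻¹ := by group
        rw [e1, h5]
        exact h4
    have h2 : VV e D.psys (fun _ => ∅) ≤ (VV e D.psys (fun _ => ∅)) ⊓ cj y⁻¹ (VV e D.psys fun _ => ∅) := by
      conv_lhs => rw [VV_eq]
      refine pk_le_of_sg e fun i t ht => ?_
      rw [← h1 i] at ht
      exact ht
    exact h2.trans inf_le_right
  refine ⟨y, E, v.notMem_H hy.1 hyE, hyT, hone y hy.1 hyE, hyM, ?_, ?_, hEp, hbE⟩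
  · rw [← cj_le_iff] at hyU
    exact Subgroup.eq_of_le_of_card_ge hyU (card_cj _ _).ge
  · obtain ⟨m, hm⟩ := hWp ⟨y, hy.1⟩
    exact ⟨m, by simpa using congrArg Subtype.val hm⟩

end

end Cfsg.Agent.H470.EPO
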