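import Cfsg.Agent.H470.EPO.R1Core
import Cfsg.Agent.H470.EPO.R1Count

/-!
# Own characteristic, rank one, `k = 1` : the contradiction (helper470)
-/

set_option autoImplicit false
set_option linter.unusedSectionVars false

namespace Cfsg.Agent.H470.EPO

open Cfsg.Agent.H284 Cfsg.Agent.H284.EPA Cfsg.Agent.H737.EPO Cfsg.Agent.H209.EPX Cfsg.Agent.H375.EPR MulAction

section

variable {G T : Type*} [Group G] [Finite G] [Group T] [Finite T] [IsSimpleGroup T] {H N : Subgroup G}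
  (e : N ≃* (Fin 1 → T)) {p : ℕ} [Fact p.Prime] (D : R1 p T) (hY : ∃ a b : T, a * b ≠ b * a)

omit [Finite G] [Finite T] [IsSimpleGroup T] [Fact p.Prime] in
theorem w_TT {x : G} (hx : x ∈ TT e D) : sg e 0 D.w * x * (sg e 0 D.w)⁻¹ ∈ TT e D := by
  obtain ⟨t, ht, rfl⟩ := (mem_pk1 e).1 hx
  rw [← map_inv, ← map_mul, ← map_mul]
  exact (mem_pk1 e).2 ⟨_, D.w_T0 ht, rfl⟩

omit [Finite G] [Finite T] [IsSimpleGroup T] [Fact p.Prime] in
theorem w_TT' {x : G} (hx : x ∈ TT e D) : (sg e 0 D.w)⁻¹ * x * sg e 0 D.w ∈ TT e D := by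
  obtain ⟨t, ht, rfl⟩ := (mem_pk1 e).1 hx
  rw [← map_inv, ← map_mul, ← map_mul]
  exact (mem_pk1 e).2 ⟨_, D.w_T0' ht, rfl⟩

theorem M_cj_ne (hN : MinN N H) : cj (sg e 0 D.w) (PH H e D.psys fun _ => ∅) ≠ PH H e D.psys fun _ => ∅ := by
  intro h
  apply w_notMem e D (H := H)
  have hw := sg_mem e 0 D.w
  refine (mem_PH e _).2 ⟨hN.le hw, ?_⟩
  rw [← PH_inf e D.psys hN.le, cj_inf, h, cj_eq_self hw]

include hY

/-- **`p = 2`, `|l_M| = 2`, `[y, y^w] ∈ H`** : a normal abelian subgroup -/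
theorem p2_false (h : EP H) (hN : MinN N H) (hc : Subgroup.centralizer (N : Set G) = ⊥) (hD : D.Hyp) (hp : p = 2)
    (hab : ∀ A : Subgroup G, A.Normal → (∀ a ∈ A, ∀ b ∈ A, a * b = b * a) → A = ⊥)
    {y : G} {E : Subgroup G} (hyH : y ∉ H) (hyT : ∀ t ∈ TT e D, y * t = t * y)
    (hyM1 : H ⊓ cj y H = PH H e D.psys (fun _ => ∅))
    (hyM : cj y (PH H e D.psys fun _ => ∅) = PH H e D.psys (fun _ => ∅))
    (hyU : cj y (VV e D.psys fun _ => ∅) = VV e D.psys (fun _ => ∅)) {m : ℕ} (hm : y ^ 2 ^ m = 1)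
    (hEp : IsPGroup 2 E) (hbE : ∀ b ∈ PH H e D.psys (fun _ => ∅), b * y * b⁻¹ * y⁻¹ ∈ E)
    (hy2 : y ^ 2 ∈ H) (hz : y * (sg e 0 D.w * y * (sg e 0 D.w)⁻¹) * y⁻¹ * (sg e 0 D.w * y * (sg e 0 D.w)⁻¹)⁻¹ ∈ H)
    (hline : ∀ c : G, c ∉ H → PH H e D.psys (fun _ => ∅) ≤ cj c H → y⁻¹ * c ∈ H) : False := by
  have hp3 : p ≤ 3 := by omega
  set M := PH H e D.psys fun _ => ∅ with hM
  set w := sg e 0 D.w with hwdef
  have hwN : w ∈ N := sg_mem e 0 D.w
  have hwH : w ∈ H := hN.le hwN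
  have hMH : M ≤ H := inf_le_left
  let C : Subgroup G := Subgroup.centralizer (TT e D : Set G)
  have hC : ∀ c : G, c ∈ C ↔ ∀ t ∈ TT e D, c * t = t * c := fun c => by
    constructor
    · intro h t ht
      exact (Subgroup.mem_centralizer_iff.1 h t ht).symm
    · intro h
      exact Subgroup.mem_centralizer_iff.2 fun t ht => (h t ht).symm
  have hyC : y ∈ C := (hC y).2 hyT
  -- `C_H(TT)` has no 2-elements
  have h2 : ∀ c ∈ C, c ∈ H → ∀ j : ℕ, c ^ 2 ^ j = 1 → c = 1 := by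
    intro c hcC hcH j hj
    have h1 : c ∈ M := cent_TT_le e D hY hN hD hp3 hcH ((hC c).1 hcC)
    exact cent_PP e D hY hN hc hD hp3 hcH (cent_U e D hD hp ((hC c).1 hcC) (cj_eq_of_nm fun a ha =>
      PH_nm_VV e D.psys h1 ha) hj)
  have hwC : ∀ c ∈ C, w⁻¹ * c * w ∈ C := by
    intro c hcC
    rw [hC] at hcC ⊢
    intro t ht
    have h1 := hcC _ (w_TT e D ht)
    calc w⁻¹ * c * w * t = w⁻¹ * (c * (w * t * w⁻¹)) * w := by group
      _ = w⁻¹ * ((w * t * w⁻¹) * c) * w := by rw [h1]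
      _ = _ := by group
  have hwC' : ∀ c ∈ C, w * c * w⁻¹ ∈ C := by
    intro c hcC
    rw [hC] at hcC ⊢
    intro t ht
    have h1 := hcC _ (w_TT' e D ht)
    calc w * c * w⁻¹ * t = w * (c * (w⁻¹ * t * w)) * w⁻¹ := by group
      _ = w * ((w⁻¹ * t * w) * c) * w⁻¹ := by rw [h1]
      _ = _ := by group
  have hyy : y ^ 2 = 1 := h2 _ (C.pow_mem hyC 2) hy2 m (by
    rw [← pow_mul, mul_comm, pow_mul, hm, one_pow])
  -- `y` centralises `C_H(TT)`
  have h3 : ∀ c ∈ C, c ∈ H → c * y = y * c := by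
    intro c hcC hcH
    have h1 : c ∈ M := cent_TT_le e D hY hN hD hp3 hcH ((hC c).1 hcC)
    have h4 := hbE c h1
    obtain ⟨j, hj⟩ := hEp ⟨_, h4⟩
    have h5 : (c * y * c⁻¹ * y⁻¹) ^ 2 ^ j = 1 := by simpa using congrArg Subtype.val hj
    have h6 : c * y * c⁻¹ * y⁻¹ ∈ C := C.mul_mem (C.mul_mem (C.mul_mem hcC hyC) (C.inv_mem hcC)) (C.inv_mem hyC)
    have h7 : c * y * c⁻¹ * y⁻¹ ∈ H := by
      have h8 : y * c⁻¹ * y⁻¹ ∈ M := by
        rw [← hyM]; exact conj_mem_cj (M.inv_mem h1)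
      have e1 : c * y * c⁻¹ * y⁻¹ = c * (y * c⁻¹ * y⁻¹) := by group
      rw [e1]
      exact H.mul_mem hcH (hMH h8)
    have h8 := h2 _ h6 h7 j h5
    rw [mul_inv_eq_one] at h8
    exact mul_inv_eq_iff_eq_mul.1 h8
  set y' := w * y * w⁻¹ with hy'
  have hy'C : y' ∈ C := hwC' y hyC
  have hyy' : y' ^ 2 = 1 := by
    have : y' ^ 2 = w * y ^ 2 * w⁻¹ := by rw [hy', conj_pow]
    rw [this, hyy]; group
  -- `y y' = y' y`
  have hcomm : y * y' = y' * y := by
    have hzC : y * y' * y⁻¹ * y'⁻¹ ∈ C :=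
      C.mul_mem (C.mul_mem (C.mul_mem hyC hy'C) (C.inv_mem hyC)) (C.inv_mem hy'C)
    have h4 := h3 _ hzC hz
    have e1 : y⁻¹ = y := by rw [inv_eq_iff_mul_eq_one, ← sq, hyy]
    have e2 : y'⁻¹ = y' := by rw [inv_eq_iff_mul_eq_one, ← sq, hyy']
    have h5 : (y * y' * y⁻¹ * y'⁻¹) ^ 2 ^ 1 = 1 := by
      rw [pow_one, sq]
      rw [e1, e2] at h4 ⊢
      have h6 : y * y' * y * y' * (y * y' * y * y') = (y * y' * y * y' * y) * (y' * y * y') := by group
      rw [h6, h4]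
      have h7 : y * (y * y' * y * y') * (y' * y * y') = (y * y) * y' * y * (y' * y') * y * y' := by group
      rw [h7, ← sq, ← sq, hyy, hyy']
      have h8 : (1 : G) * y' * y * 1 * y * y' = y' * (y * y) * y' := by group
      rw [h8, ← sq, hyy]
      rw [mul_one, ← sq, hyy']
    have h6 := h2 _ hzC hz 1 h5
    rw [mul_inv_eq_one, mul_inv_eq_iff_eq_mul] at h6
    exact h6
  -- `y` centralises `B_N`
  have hyB : ∀ b ∈ PP e D.psys (fun _ => ∅), y * b = b * y := cent_U e D hD hp hyT hyU hm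
  have huniq : ∀ c : G, c ∉ H → (∀ b ∈ PP e D.psys (fun _ => ∅), c * b = b * c) → c = y := by
    intro c hcH hcB
    have h4 : VV e D.psys (fun _ => ∅) ≤ H ⊓ cj c H := by
      refine le_inf ((VV_le e _ _).trans hN.le) fun v hv => ?_
      have h5 := hcB v (VV_le_PP' e _ _ _ hv)
      rw [mem_cj]
      have e1 : c⁻¹ * v * c = v := by rw [mul_assoc, ← h5]; group
      rw [e1]
      exact hN.le (VV_le e _ _ hv)
    have h5 := two_over_U e D hY h hN ⟨c, hcH, rfl⟩ h4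
    have h6 := hline c hcH (by rw [hM, ← h5]; exact inf_le_right)
    have h7 : y⁻¹ * c = 1 := by
      refine cent_PP e D hY hN hc hD hp3 h6 fun b hb => ?_
      have h8 := hyB b hb
      have h9 := hcB b hb
      have h10 : y⁻¹ * b = b * y⁻¹ := by
        rw [inv_mul_eq_iff_eq_mul, ← mul_assoc, h8, mul_inv_cancel_right]
      rw [mul_assoc, h9, ← mul_assoc, h10, mul_assoc]
    exact (inv_mul_eq_one.1 h7).symm
  have hM2 : M ∈ EP.twoSet H := ⟨y, hyH, hyM1.symm⟩
  have hMX := mx_of_two h hN hM2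
  have hconj : ∀ g ∈ H, (g * y * g⁻¹) * y = y * (g * y * g⁻¹) := by
    intro g hg
    obtain ⟨n, hn, c, hcM, rfl⟩ := hMX.fac hN hg
    have h4 : c * y * c⁻¹ = y := by
      apply huniq
      · intro h5
        apply hyH
        have h6 := H.mul_mem (H.mul_mem (H.inv_mem (hMH hcM)) h5) (hMH hcM)
        have e1 : c⁻¹ * (c * y * c⁻¹) * c = y := by group
        rwa [e1] at h6
      · intro b hb
        have h5 : c⁻¹ * b * c ∈ PP e D.psys fun _ => ∅ := by
          have h6 := ((mem_PH e _).1 hcM).2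
          rw [← h6, mem_cj] at hb
          exact hb
        have h6 := hyB _ h5
        calc c * y * c⁻¹ * b = c * (y * (c⁻¹ * b * c)) * c⁻¹ := by group
          _ = c * ((c⁻¹ * b * c) * y) * c⁻¹ := by rw [h6]
          _ = _ := by group
    have h5 : n * c * y * (n * c)⁻¹ = n * y * n⁻¹ := by
      have : n * c * y * (n * c)⁻¹ = n * (c * y * c⁻¹) * n⁻¹ := by group
      rw [this, h4]
    rw [h5]
    rw [← sg_cp e hn]
    set t := cp e n 0 with ht
    by_cases htB : t ∈ D.B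
    · have h6 : sg e 0 t ∈ PP e D.psys fun _ => ∅ := by rw [PP_eq]; exact (sg_mem_pk e).2 htB
      have h7 : sg e 0 t * y * (sg e 0 t)⁻¹ = y := by
        rw [← hyB _ h6]; group
      rw [h7]
    · obtain ⟨u, hu, b, hb, hut⟩ := D.tr t htB
      have h6 : sg e 0 b * y * (sg e 0 b)⁻¹ = y := by
        have h7 : sg e 0 b ∈ PP e D.psys fun _ => ∅ := by rw [PP_eq]; exact (sg_mem_pk e).2 hb
        rw [← hyB _ h7]; group
      have h8 : sg e 0 u ∈ PP e D.psys fun _ => ∅ := by rw [PP_eq]; exact (sg_mem_pk e).2 (D.U_le hu)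
      have h9 := hyB _ h8
      have h10 : y * (sg e 0 u)⁻¹ = (sg e 0 u)⁻¹ * y := by
        rw [eq_inv_mul_iff_mul_eq, ← mul_assoc, ← h9, mul_inv_cancel_right]
      have h7 : sg e 0 t * y * (sg e 0 t)⁻¹ = sg e 0 u * y' * (sg e 0 u)⁻¹ := by
        rw [hut, map_mul, map_mul, hy']
        have : sg e 0 u * sg e 0 D.w * sg e 0 b * y * (sg e 0 u * sg e 0 D.w * sg e 0 b)⁻¹ =
            sg e 0 u * sg e 0 D.w * (sg e 0 b * y * (sg e 0 b)⁻¹) * (sg e 0 u * sg e 0 D.w)⁻¹ := by group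
        rw [this, h6, hwdef]
        group
      rw [h7]
      calc sg e 0 u * y' * (sg e 0 u)⁻¹ * y = sg e 0 u * y' * ((sg e 0 u)⁻¹ * y) := by group
        _ = sg e 0 u * y' * (y * (sg e 0 u)⁻¹) := by rw [h10]
        _ = sg e 0 u * (y' * y) * (sg e 0 u)⁻¹ := by group
        _ = sg e 0 u * (y * y') * (sg e 0 u)⁻¹ := by rw [hcomm]
        _ = (sg e 0 u * y) * y' * (sg e 0 u)⁻¹ := by group
        _ = (y * sg e 0 u) * y' * (sg e 0 u)⁻¹ := by rw [h9]
        _ = _ := by group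
  -- the normal abelian subgroup
  let S : Set G := {x | ∃ g ∈ H, x = g * y * g⁻¹}
  have hS : ∀ x ∈ S, ∀ x' ∈ S, x * x' = x' * x := by
    rintro _ ⟨g, hg, rfl⟩ _ ⟨g', hg', rfl⟩
    have h4 := hconj (g⁻¹ * g') (H.mul_mem (H.inv_mem hg) hg')
    calc g * y * g⁻¹ * (g' * y * g'⁻¹) = g * (y * (g⁻¹ * g' * y * (g⁻¹ * g')⁻¹)) * g⁻¹ := by group
      _ = g * (g⁻¹ * g' * y * (g⁻¹ * g')⁻¹ * y) * g⁻¹ := by rw [h4]
      _ = _ := by group
  let A : Subgroup G := Subgroup.closure S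
  have hA1 : A ≤ Subgroup.centralizer S := by
    rw [Subgroup.closure_le]
    intro x hx
    rw [SetLike.mem_coe, Subgroup.mem_centralizer_iff]
    intro x' hx'
    exact hS x' hx' x hx
  have hA2 : A ≤ Subgroup.centralizer (A : Set G) := by
    rw [Subgroup.closure_le]
    intro x hx
    rw [SetLike.mem_coe, Subgroup.mem_centralizer_iff]
    intro a ha
    exact (Subgroup.mem_centralizer_iff.1 (hA1 ha) x hx).symm
  have hyA : y ∈ A := Subgroup.subset_closure ⟨1, one_mem _, by group⟩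
  have hHA : H ≤ Subgroup.normalizer (A : Set G) := by
    intro g hg
    rw [Subgroup.mem_normalizer_iff_map_conj_eq]
    apply cj_eq_of_nm
    intro a ha
    have h4 : A ≤ A.comap (MulAut.conj g).toMonoidHom := by
      rw [Subgroup.closure_le]
      rintro _ ⟨g', hg', rfl⟩
      show g * (g' * y * g'⁻¹) * g⁻¹ ∈ A
      exact Subgroup.subset_closure ⟨g * g', H.mul_mem hg hg', by group⟩
    exact h4 ha
  have hn : A.Normal := by
    rw [← Subgroup.normalizer_eq_top_iff]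
    apply h.max.2
    refine lt_of_le_of_ne hHA fun h4 => hyH ?_
    rw [h4]
    exact Subgroup.le_normalizer hyA
  have h5 := hab A hn fun a ha b hb => (Subgroup.mem_centralizer_iff.1 (hA2 ha) b hb).symm
  apply hyH
  have h6 : y = 1 := by
    rw [h5] at hyA
    exact hyA
  rw [h6]
  exact one_mem _

/-- **Rank one, `k = 1`.** -/
theorem r1_false (h : EP H) (hN : MinN N H) (hc : Subgroup.centralizer (N : Set G) = ⊥) (hD : D.Hyp)
    (hDQ : DQ (p := p) H e D.psys fun _ => ∅)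
    (hab : ∀ A : Subgroup G, A.Normal → (∀ a ∈ A, ∀ b ∈ A, a * b = b * a) → A = ⊥) : False := by
  classical
  obtain ⟨y, E, hyH, hyT, hyM1, hyM, hyU, ⟨m, hm⟩, hEp, hbE⟩ := exists_y e D hY h hN hD hDQ
  obtain ⟨Zs, hZc, hZ1, hZ⟩ := hD.ov
  have hf := h.faithful
  have hE := h.toEPA
  set M := PH H e D.psys fun _ => ∅ with hM
  set w := sg e 0 D.w with hwdef
  have hwN : w ∈ N := sg_mem e 0 D.w
  have hwH : w ∈ H := hN.le hwN
  have hMH : M ≤ H := inf_le_left
  set a : G ⧸ H := ((1 : G) : G ⧸ H) with ha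
  have hsa : stabilizer G a = H := MulAction.stabilizer_quotient H
  have hfix : ∀ g : G, g • a = a ↔ g ∈ H := fun g => by
    rw [← mem_stabilizer_iff, hsa]
  have hB : M = stabilizer G a ⊓ stabilizer G (y • a) := by
    rw [stab_smul, hsa]
    exact hyM1.symm
  have hya : y • a ≠ a := fun h1 => hyH ((hfix y).1 h1)
  have hwa : w • a = a := (hfix w).2 hwH
  have hVM : VV e D.psys (fun _ => ∅) ≤ M := (VV_le_PP e _ _).trans (PP_le_PH e _ hN.le _)
  have hM1 : M ≠ ⊥ := by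
    intro h1
    have h2 : VV e D.psys (fun _ => ∅) = ⊥ := le_bot_iff.1 (hVM.trans h1.le)
    exact VV_ne_bot e (S := D.psys) (J := fun _ => ∅) (i := 0) Set.empty_ne_univ h2
  have hwB : cj w M ≠ M := M_cj_ne e D hN
  have hXB : TT e D ≤ M := (TT_le_PP e D).trans (PP_le_PH e _ hN.le _)
  have hwX : cj w (TT e D) = TT e D := cj_eq_of_nm fun t ht => w_TT e D ht
  have hXw : TT e D ≤ cj w M := by
    rw [← hwX]
    exact cj_mono hXB
  have hyX : cj y (TT e D) = TT e D := cj_eq_of_nm fun t ht => by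
    rw [hyT t ht, mul_inv_cancel_right]; exact ht
  have hXa : TT e D ≤ stabilizer G a := by rw [hsa]; exact hXB.trans hMH
  have hlD : linesD (TT e D) a = EP.twoSetD H (TT e D) := EP.twoSetD_eq H _
  -- the line size
  set s := (fixPts (G ⧸ H) M).ncard with hs
  have hps : p ∣ s := p_dvd hE hya hB hM1 hyM hm
  have haM : a ∈ fixPts (G ⧸ H) M := mem_fixPts.2 (by rw [hsa]; exact hMH)
  have hs0 : 0 < s := (Set.ncard_pos (Set.toFinite _)).2 ⟨a, haM⟩
  have hple : p ≤ s := Nat.le_of_dvd hs0 hps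
  have hsr : s ≤ (linesD (TT e D) a).ncard := by
    have h1 := line_le hE hya (w := w) (y := y) (by rw [hsa]; exact hwH) (by rw [← hB]; exact hwB) rfl
      (X := TT e D) (by rw [← hB]; exact hXB) (by rw [← hB]; exact hXw) hyX
    rwa [← hB] at h1
  have hcl : ∀ M' ∈ linesD (TT e D) a, M' = M ∨ M' = cj w M ∨
      ∃ Z ∈ Zs, M' = H ⊓ Subgroup.normalizer (Z.map (sg e 0) : Set G) := by
    intro M' hM'
    rw [hlD] at hM'
    exact two_over_T e D hY h hN hZ1 hZ hM'.1 hM'.2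
  have hrZ : (linesD (TT e D) a).ncard ≤ Zs.card + 2 := by
    have h1 : linesD (TT e D) a ⊆ ((insert M (insert (cj w M) (Zs.image fun Z =>
        H ⊓ Subgroup.normalizer (Z.map (sg e 0) : Set G))) : Finset (Subgroup G)) : Set (Subgroup G)) := by
      intro M' hM'
      rw [Finset.mem_coe, Finset.mem_insert, Finset.mem_insert, Finset.mem_image]
      rcases hcl M' hM' with h2 | h2 | ⟨Z, hZZ, h2⟩
      · exact Or.inl h2
      · exact Or.inr (Or.inl h2)
      · exact Or.inr (Or.inr ⟨Z, hZZ, h2.symm⟩)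
    refine (Set.ncard_le_ncard h1 (Set.toFinite _)).trans ?_
    rw [Set.ncard_coe_finset]
    refine (Finset.card_insert_le _ _).trans ?_
    have h2 := Finset.card_insert_le (cj w M) (Zs.image fun Z => H ⊓ Subgroup.normalizer (Z.map (sg e 0) : Set G))
    have h3 := Finset.card_image_le (s := Zs) (f := fun Z => H ⊓ Subgroup.normalizer (Z.map (sg e 0) : Set G))
    omega
  have hZ1' : Zs.card ≤ 1 := by
    rcases hZc with h1 | h1
    · exact h1
    · omega
  obtain ⟨M₃, hM₃⟩ : ∃ M₃ : Subgroup G, ∀ M' ∈ linesD (TT e D) a, M' = M ∨ M' = cj w M ∨ M' = M₃ := by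
    rcases Finset.eq_empty_or_nonempty Zs with h1 | ⟨Z₀, hZ₀⟩
    · refine ⟨M, fun M' hM' => ?_⟩
      rcases hcl M' hM' with h2 | h2 | ⟨Z, hZZ, h2⟩
      · exact Or.inl h2
      · exact Or.inr (Or.inl h2)
      · rw [h1] at hZZ
        exact (Finset.notMem_empty Z hZZ).elim
    · refine ⟨H ⊓ Subgroup.normalizer (Z₀.map (sg e 0) : Set G), fun M' hM' => ?_⟩
      rcases hcl M' hM' with h2 | h2 | ⟨Z, hZZ, h2⟩
      · exact Or.inl h2
      · exact Or.inr (Or.inl h2)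
      · have h3 := Finset.card_le_one.1 hZ1' Z hZZ Z₀ hZ₀
        rw [h3] at h2
        exact Or.inr (Or.inr h2)
  obtain ⟨hr3, hF⟩ := fix_three hE hwa hya hB hwB hXB hyX hM₃
  have hp3 : p ≤ 3 := hple.trans (hsr.trans hr3)
  have hp2 := (Fact.out : p.Prime).two_le
  have hsp : s = p := by
    obtain ⟨c, hc⟩ := hps
    have h1 : c = 1 := by
      have h2 : c ≠ 0 := by rintro rfl; omega
      have h3 : s ≤ 3 := hsr.trans hr3
      by_contra h4
      have h5 : 2 ≤ c := by omega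
      nlinarith
    rw [hc, h1, mul_one]
  rw [← hs, hsp] at hF
  have hyp : y ^ p • a = a := pow_p hE hya hB hyM hm (by rw [← hs, hsp])
  set y' := w * y * w⁻¹ with hy'
  have hy'a : y' • a = w • y • a := by
    rw [hy', mul_smul, mul_smul, (hfix w⁻¹).2 (inv_mem hwH)]
  let C : Subgroup G := Subgroup.centralizer (TT e D : Set G)
  have hC : ∀ c : G, c ∈ C ↔ ∀ t ∈ TT e D, c * t = t * c := fun c => by
    constructor
    · intro h t ht
      exact (Subgroup.mem_centralizer_iff.1 h t ht).symm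
    · intro h
      exact Subgroup.mem_centralizer_iff.2 fun t ht => (h t ht).symm
  have hyC : y ∈ C := (hC y).2 hyT
  have hwC : ∀ c ∈ C, w⁻¹ * c * w ∈ C := by
    intro c hcC
    rw [hC] at hcC ⊢
    intro t ht
    have h1 := hcC _ (w_TT e D ht)
    calc w⁻¹ * c * w * t = w⁻¹ * (c * (w * t * w⁻¹)) * w := by group
      _ = w⁻¹ * ((w * t * w⁻¹) * c) * w := by rw [h1]
      _ = _ := by group
  have hwC' : ∀ c ∈ C, w * c * w⁻¹ ∈ C := by
    intro c hcC
    rw [hC] at hcC ⊢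
    intro t ht
    have h1 := hcC _ (w_TT' e D ht)
    calc w * c * w⁻¹ * t = w * (c * (w⁻¹ * t * w)) * w⁻¹ := by group
      _ = w * ((w⁻¹ * t * w) * c) * w⁻¹ := by rw [h1]
      _ = _ := by group
  have hy'C : y' ∈ C := hwC' y hyC
  have hyn : ∀ c ∈ C, c • a = a → c • y • a = y • a := by
    intro c hcC hca
    have h1 : c ∈ M := cent_TT_le e D hY hN hD hp3 ((hfix c).1 hca) ((hC c).1 hcC)
    rw [hB] at h1
    exact (Subgroup.mem_inf.1 h1).2
  have hyn' : ∀ c ∈ C, c • a = a → c • y' • a = y' • a := by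
    intro c hcC hca
    have h1 := hyn _ (hwC c hcC) (by
      rw [mul_smul, mul_smul, hwa, hca, (hfix w⁻¹).2 (inv_mem hwH)])
    rw [hy'a]
    rw [mul_smul, mul_smul, inv_smul_eq_iff] at h1
    exact h1
  have hyp' : y' ^ p • a = a := by
    rw [hy', conj_pow, mul_smul, mul_smul, (hfix w⁻¹).2 (inv_mem hwH), hyp, hwa]
  have hne : ∀ i : ℤ, y' • a ≠ y ^ i • a := by
    intro i h1
    have h2 : y ^ i • a ∈ fixPts (G ⧸ H) M := smul_mem_line (zpow_cj hyM (Subgroup.zpow_mem_zpowers y i)) haM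
    rw [← h1] at h2
    have h3 : y' • a ≠ a := by
      rw [hy'a]
      intro h4
      apply hya
      exact smul_left_cancel w (h4.trans hwa.symm)
    have h4 := hE.stab_eq hya h3 (by rw [← hB]; exact h2)
    apply hwB
    have h5 : cj w M = stabilizer G a ⊓ stabilizer G (y' • a) := by
      conv_lhs => rw [hB]
      rw [cj_inf, ← stab_smul, ← stab_smul, hwa, hy'a]
    rw [h5, h4, ← hB]
  obtain ⟨q3, q2⟩ := quot_main (C := C) (a := a) (X := TT e D) hXa (fun c hc => cj_eq_of_nm fun t ht => by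
    rw [(hC c).1 hc t ht, mul_inv_cancel_right]; exact ht) hyC hy'C hya hyn hyn' hyp hyp' hne
  rcases (by omega : p = 2 ∨ p = 3) with hp | hp
  · have hz := (hfix _).1 (q2 hp (by omega))
    refine p2_false e D hY h hN hc hD hp hab hyH hyT hyM1 hyM hyU (m := m) (by rw [← hp]; exact hm) (E := E)
      (by rw [← hp]; exact hEp) hbE (by rw [← hp]; exact (hfix _).1 hyp) hz fun c hcH hcM => ?_
    by_contra hcon
    have h1 : c • a ≠ a := fun h2 => hcH ((hfix c).1 h2)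
    have h2 : c • a ≠ y • a := by
      intro h3
      apply hcon
      rw [← hfix, mul_smul, h3, inv_smul_smul]
    have h3 : ({a, y • a, c • a} : Set (G ⧸ H)) ⊆ fixPts (G ⧸ H) M := by
      intro x hx
      rcases hx with rfl | rfl | rfl
      · exact haM
      · exact mem_fixPts.2 (by rw [hB]; exact inf_le_right)
      · exact mem_fixPts.2 (by rw [stab_smul, hsa]; exact hcM)
    have h4 := Set.ncard_le_ncard h3 (Set.toFinite _)
    rw [← hs, hsp, hp, Set.ncard_eq_three.2 ⟨a, y • a, c • a, hya.symm, h1.symm, h2.symm, rfl⟩] at h4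
    omega
  · exact q3 hp (by omega)

end

end Cfsg.Agent.H470.EPO
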