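import Cfsg.Agent.H470.EPO.SmallT
import Cfsg.Agent.H470.EPO.OwnCells
import Cfsg.Agent.H225.EX.SmallOrd
import Cfsg.Agent.H347.EPX.R1Kill

/-!
# `OwnSmall p G` for the seven families (helper470; orders by helper225, `U₃(3)` in `G₂(3)`, `U₃(5)` in `G₂(5)` by
helper347)
-/

set_option autoImplicit false
set_option linter.unusedSectionVars false

namespace Cfsg.Agent.H470.EPO

open Cfsg Cfsg.Agent.H284 Cfsg.Agent.H209.EPX Cfsg.Agent.OrdDiv Cfsg.Agent.H805.EPX Cfsg.Agent.H225.EX
open Cfsg.Agent.H470.EPO.Small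

/-- no `PSU₃(p)` -/
def NoU3 (p : ℕ) (G : Type) [Group G] : Prop :=
  ∀ (H N : Subgroup G) (T : Type) [Group T] (e : N ≃* (Fin 1 → T)), EPS H N e → ∀ (K : Type) [Field K] [Fintype K]
    [CharP K p], Fintype.card K = p ^ 2 → (T ≃* PSU 3 K p) → False

theorem five_dvd {G : Type} [Group G] [Finite G] {N : Subgroup G} {T : Type} [Group T] {e : N ≃* (Fin 1 → T)}
    {F : Type} [Field F] [Fintype F] (hF : Fintype.card F = 9)
    (f : T ≃* Matrix.ProjectiveSpecialLinearGroup (Fin 2) F) : 5 ∣ Nat.card G := by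
  obtain ⟨g⟩ := S0254.result hF
  have hc : Nat.card N = 360 := by
    rw [Nat.card_congr ((e.trans (MulEquiv.funUnique (Fin 1) T)).trans (f.trans g)).toEquiv]
    have h1 := two_mul_nat_card_alternatingGroup (α := Fin 6)
    rw [Nat.card_perm, Nat.card_eq_fintype_card (α := Fin 6), Fintype.card_fin] at h1
    have h2 : Nat.factorial 6 = 720 := rfl
    omega
  have h1 : 360 ∣ Nat.card G := hc ▸ N.card_subgroup_dvd_card
  omega

theorem char_eq {F : Type} [Field F] [Fintype F] {p r n : ℕ} [hp : Fact p.Prime] [CharP F p] (hr : r.Prime)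
    (hF : Fintype.card F = r ^ n) : p = r := by
  have h1 : p ∣ Fintype.card F := (CharP.cast_eq_zero_iff F p _).1 (Nat.cast_card_eq_zero F)
  rw [hF] at h1
  exact (Nat.prime_dvd_prime_iff_eq hp.out hr).1 (hp.out.dvd_of_dvd_pow h1)

/-- **`OwnSmall`** from the orders -/
theorem ownSmall_of (hg : Cfsg.Agent.H59.EP.TwoGen.{0}) {G : Type} [Group G] [Finite G] [IsSimpleGroup G] {p : ℕ}
    [Fact p.Prime] {X : Prop} (h5 : 319560 < Nat.card G) (hB : Big p G X) (hX : X → p = 3 ∨ p = 5 → NoU3 p G) :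
    OwnSmall p G := by
  intro H N T _ e h hT
  rcases hT with ⟨F, i1, i2, i3, hF, ⟨f⟩⟩ | ⟨F, i1, i2, i3, q, hF, hq, ⟨f⟩⟩
  · rcases (by omega : (Fintype.card F = 4 ∨ Fintype.card F = 5) ∨ Fintype.card F = 9) with h45 | h9
    · exact absurd (cPSL45 hg h h45 f) (not_le.2 h5)
    · have hp : p = 3 := char_eq (F := F) (r := 3) (n := 2) (by norm_num) (by rw [h9]; norm_num)
      rcases hB.a6 hp with h1 | h1
      · have := cPSL9 h h9 f
        omega
      · exact h1 (five_dvd (e := e) h9 f)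
  · rcases hq with rfl | rfl
    · have hp : p = 3 := char_eq (F := F) (r := 3) (n := 2) (by norm_num) hF
      subst hp
      rcases hB.u3 rfl with h1 | h1
      · exact absurd (cU3 h (by rw [hF]; norm_num) f) (not_le.2 h1)
      · exact hX h1 (Or.inl rfl) H N T e h F hF f
    · have hp : p = 5 := char_eq (F := F) (r := 5) (n := 2) (by norm_num) hF
      subst hp
      rcases hB.u5 rfl with h1 | h1
      · have h2 := cU5 hg h hF f
        have h3 : 13476225485170980000 < 14 * 10 ^ 18 := by norm_num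
        omega
      · exact hX h1 (Or.inr rfl) H N T e h F hF f

section

variable (hg : Cfsg.Agent.H59.EP.TwoGen.{0}) (OT : OrderTable.{0})

include hg OT

theorem small_e8 (F : Type) [Field F] [Fintype F] (p : ℕ) [Fact p.Prime] [IsSimpleGroup ↥(Lie.chevE8.group F)] :
    OwnSmall p ↥(Lie.chevE8.group F) :=
  ownSmall_of hg (lt_card1 (f := .e8) (Q := 2) (by decide +kernel) two_le (OT.e8 F _ rfl)) (big_e8 OT F p False)
    False.elim

theorem small_e7 (F : Type) [Field F] [Fintype F] (p : ℕ) [Fact p.Prime] [IsSimpleGroup ↥(Lie.chevE7.group F)] :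
    OwnSmall p ↥(Lie.chevE7.group F) :=
  ownSmall_of hg (lt_card (f := .e7) (Q := 2) (by decide +kernel) two_le (OT.e7 F _ rfl)) (big_e7 OT F p False)
    False.elim

theorem small_e6 (F : Type) [Field F] [Fintype F] (p : ℕ) [Fact p.Prime] [IsSimpleGroup ↥(Lie.chevE6.group F)] :
    OwnSmall p ↥(Lie.chevE6.group F) :=
  ownSmall_of hg (lt_card (f := .e6) (Q := 2) (by decide +kernel) two_le (OT.e6 F _ rfl)) (big_e6 OT F p False)
    False.elim

theorem small_te6 (K : Type) [Field K] [Fintype K] (p q : ℕ) [Fact p.Prime] [IsSimpleGroup ↥(Lie.twistedE6 K q)]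
    (hq : IsPrimePow q) (hK : Fintype.card K = q ^ 2) : OwnSmall p ↥(Lie.twistedE6 K q) :=
  ownSmall_of hg (lt_card (f := .te6) (Q := 2) (by decide +kernel) hq.two_le (OT.te6 K q hq hK))
    (big_te6 OT K p q False hq hK) False.elim

theorem small_f4 (F : Type) [Field F] [Fintype F] (p : ℕ) [Fact p.Prime] [CharP F p]
    [IsSimpleGroup ↥(Lie.chevF4.group F)] : OwnSmall p ↥(Lie.chevF4.group F) :=
  ownSmall_of hg (lt_card1 (f := .f4) (Q := 2) (by decide +kernel) two_le (OT.f4 F _ rfl)) (big_f4 OT F p False)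
    False.elim

theorem small_td4 (K : Type) [Field K] [Fintype K] (p q : ℕ) [Fact p.Prime] [CharP K p]
    [IsSimpleGroup ↥(Lie.twistedD4 K q)] (hq : IsPrimePow q) (hK : Fintype.card K = q ^ 3) :
    OwnSmall p ↥(Lie.twistedD4 K q) :=
  ownSmall_of hg (lt_card1 (f := .td4) (Q := 2) (by decide +kernel) hq.two_le (OT.td4 K q hq hK))
    (big_td4 OT K p q False hq hK) False.elim

theorem small_g2 (F : Type) [Field F] [Fintype F] (p : ℕ) [Fact p.Prime] [CharP F p]
    [IsSimpleGroup ↥(Lie.chevG2.group F)] (h3 : 3 ≤ Fintype.card F) : OwnSmall p ↥(Lie.chevG2.group F) := by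
  refine ownSmall_of hg ?_ (big_g2 OT F p h3) fun h1 hp H N T _ e h K _ _ _ hK f =>
    H347.EPX.kill_u3 hp h1 h hK f
  rw [OT.g2 F]
  exact g2_mono (Q := 3) (by norm_num) h3

end

end Cfsg.Agent.H470.EPO
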