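import Cfsg.Agent.H746.EK.Bound
import Cfsg.Agent.H998.EPA.Six
import Cfsg.Agent.H119.EP.USoc
import Cfsg.Agent.H209.EPX.Defs
import Cfsg.Agent.Schreier.Alt
import Cfsg.Agent.S0252
import Cfsg.Agent.S0253
import Cfsg.Agent.S0254
import Cfsg.Agent.S0280
import Cfsg.Agent.S0815
import Cfsg.Agent.S2119

/-!
# The orders of the groups with a small socle of rank one (helper470; counting by helper746, 998, 119)

`k = 1`: `cA5 : |G| ≤ 319560`, `cA6 : |G| < 4680000`, `cU3 : |G| ≤ 4239212544`, `cU5 : |G| ≤ 13476225485170980000`.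
-/

set_option autoImplicit false
set_option linter.unusedSectionVars false

namespace Cfsg.Agent.H470.EPO.Small

open Cfsg Cfsg.Agent.H284 Cfsg.Agent.H209.EPX Cfsg.Agent.H419.EP Cfsg.Agent.H746.EK

/-- The `T`-form for a simple group. -/
theorem ept_of_ep {G : Type*} [Group G] [Finite G] [IsSimpleGroup G] (hcomm : ¬ ∀ a b : G, a * b = b * a)
    {H : Subgroup G} (h : EP H) : EPT H (H.map (MulAut.conj : G →* MulAut G)) := by
  have hs : IsSimpleGroup (⊤ : Subgroup G) := (Subgroup.topEquiv (G := G)).isSimpleGroup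
  have hcent : Subgroup.centralizer ((⊤ : Subgroup G) : Set G) = ⊥ := by
    have h1 : Subgroup.centralizer ((⊤ : Subgroup G) : Set G) = Subgroup.center G := by
      rw [Subgroup.coe_top, Subgroup.centralizer_univ]
    rw [h1]
    rcases (inferInstance : (Subgroup.center G).Normal).eq_bot_or_eq_top with h2 | h2
    · exact h2
    · exfalso
      apply hcomm
      intro a b
      have : b ∈ Subgroup.center G := by rw [h2]; exact Subgroup.mem_top _
      exact (Subgroup.mem_center_iff.1 this a)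
  have hsol : Group.IsSolvable (G ⧸ (⊤ : Subgroup G)) := by
    have : Subsingleton (G ⧸ (⊤ : Subgroup G)) := QuotientGroup.subsingleton_quotient_top
    infer_instance
  have h1 := h.toEPT (T := ⊤) (Subgroup.topEquiv (G := G)) hs
    (fun h2 => hcomm fun a b => h2 a (Subgroup.mem_top _) b (Subgroup.mem_top _)) hcent hsol
  have e1 : TA (Subgroup.topEquiv (G := G)) H = H := by
    ext q
    rfl
  have e2 : toAut (Subgroup.topEquiv (G := G)) = (MulAut.conj : G →* MulAut G) := by
    ext g q
    have := toG_toAut (Subgroup.topEquiv (G := G)) g q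
    exact this
  rw [e1, e2] at h1
  exact h1

/-- A stabiliser with simple socle. -/
theorem hasSoc_of_eps {G : Type*} [Group G] {H N : Subgroup G} {T : Type} [Group T] {e : N ≃* (Fin 1 → T)}
    (h : EPS H N e) {L : Type*} [Group L] (f : T ≃* L) : HasSoc H L := by
  refine ⟨N, h.le, h.nrm, ?_, ⟨(e.trans (MulEquiv.funUnique (Fin 1) T)).trans f⟩⟩
  intro a _ hc
  have h1 : a ∈ Subgroup.centralizer (N : Set G) := by
    rw [Subgroup.mem_centralizer_iff]
    exact fun n hn => (hc n hn).symm
  rw [h.cent] at h1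
  exact Subgroup.mem_bot.1 h1

section

variable {G : Type} [Group G] [Finite G] {H N : Subgroup G} {T : Type} [Group T] {e : N ≃* (Fin 1 → T)}

theorem nab (h : EPS H N e) : ¬ ∀ a b : G, a * b = b * a := by
  intro hc
  obtain ⟨a, b, hab⟩ := h.nab
  apply hab
  have h4 : e.symm (fun _ => a) * e.symm (fun _ => b) = e.symm (fun _ => b) * e.symm (fun _ => a) :=
    Subtype.ext (hc _ _)
  rw [← map_mul, ← map_mul] at h4
  exact congrFun (e.symm.injective h4) 0

/-- **`A₅`** -/
theorem cA5 (hg : Cfsg.Agent.H59.EP.TwoGen.{0}) (h : EPS H N e) (f : T ≃* alternatingGroup (Fin 5)) :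
    Nat.card G ≤ 319560 := by
  have hc : Nat.card T = 60 := by
    rw [Nat.card_congr f.toEquiv]
    have h1 := two_mul_nat_card_alternatingGroup (α := Fin 5)
    rw [Nat.card_perm, Nat.card_eq_fintype_card (α := Fin 5), Fintype.card_fin] at h1
    have h2 : Nat.factorial 5 = 120 := rfl
    omega
  have ha : Nat.card (MulAut T) ≤ 120 := by
    rw [Nat.card_congr (MulAut.congr f).toEquiv,
      ← Nat.card_congr (Equiv.ofBijective _ (S2119.result 5 (by norm_num) (by norm_num))), Nat.card_perm, Nat.card_fin]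
    decide
  have hsch : Cfsg.Agent.Schreier.Basic.Sch T :=
    Cfsg.Agent.Schreier.Alt.sch_of_isAlternating ⟨5, le_rfl, ⟨f⟩⟩
  have h1 := bound_five hg h hsch (by norm_num) ha (by rw [hc]; norm_num) (by rw [hc]; decide +kernel)
  rw [hc] at h1
  exact h1.trans (by decide +kernel)

/-- **`PSL₂(4)`, `PSL₂(5)`** -/
theorem cPSL45 (hg : Cfsg.Agent.H59.EP.TwoGen.{0}) (h : EPS H N e) {F : Type} [Field F] [Fintype F]
    (hF : Fintype.card F = 4 ∨ Fintype.card F = 5) (f : T ≃* Matrix.ProjectiveSpecialLinearGroup (Fin 2) F) :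
    Nat.card G ≤ 319560 := by
  rcases hF with hF | hF
  · obtain ⟨g⟩ := S0252.result hF
    exact cA5 hg h (f.trans g)
  · obtain ⟨g⟩ := S0253.result hF
    exact cA5 hg h (f.trans g)

/-- **`PSL₂(9)`** -/
theorem cPSL9 [IsSimpleGroup G] (h : EPS H N e) {F : Type} [Field F] [Fintype F]
    (hF : Fintype.card F = 9) (f : T ≃* Matrix.ProjectiveSpecialLinearGroup (Fin 2) F) :
    Nat.card G < 4680000 := by
  obtain ⟨g⟩ := S0254.result hF
  by_contra hcon
  exact H998.EPA.a6_false (ept_of_ep (nab h) h.ep) (hasSoc_of_eps h (f.trans g)) (not_lt.1 hcon)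

/-- **`PSU₃(3)`** -/
theorem cU3 [IsSimpleGroup G] (h : EPS H N e) {F : Type} [Field F] [Fintype F]
    (hF : Fintype.card F = 9) (f : T ≃* PSU 3 F 3) : Nat.card G ≤ 4239212544 :=
  Cfsg.Agent.H119.EP.card_le_hasSoc (ept_of_ep (nab h) h.ep) hF (hasSoc_of_eps h f)

theorem card_psu_three_five {F : Type} [Field F] [Fintype F] (hF : Fintype.card F = 5 ^ 2) :
    Nat.card (Cfsg.PSU 3 F 5) = 126000 := by
  have h := Cfsg.Agent.S0280.result (F := F) (q := 5) hF 3 (by norm_num)
  norm_num [Finset.prod_range_succ, Nat.even_iff] at h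
  omega

/-- **`PSU₃(5)`** -/
theorem cU5 (hg : Cfsg.Agent.H59.EP.TwoGen.{0}) (h : EPS H N e) {F : Type} [Field F] [Fintype F]
    (hF : Fintype.card F = 5 ^ 2) (f : T ≃* PSU 3 F 5) : Nat.card G ≤ 13476225485170980000 := by
  have hc : Nat.card T = 126000 := by
    rw [Nat.card_congr f.toEquiv]
    exact card_psu_three_five hF
  have ha : Nat.card (MulAut T) ≤ 756000 := by
    have hp : Fact (Nat.Prime 5) := ⟨by norm_num⟩
    rw [Nat.card_congr (MulAut.congr f).toEquiv, S0815.result 5 1 le_rfl (q := 5) (by norm_num) hF 3 le_rfl (by norm_num),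
      card_psu_three_five hF]
    decide +kernel
  have hsch : Cfsg.Agent.Schreier.Basic.Sch T :=
    Cfsg.Agent.Schreier.PSU.sch_of_isPSU ⟨F, inferInstance, inferInstance, 3, 5, hF, le_rfl, fun e => by simp at e, ⟨f⟩⟩
  have h1 := bound_five hg h hsch (by norm_num) ha (by rw [hc]; norm_num) (by rw [hc]; decide +kernel)
  rw [hc] at h1
  exact h1.trans (by decide +kernel)

end

end Cfsg.Agent.H470.EPO.Small
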